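import Groth.Agent.CohCmpLib.HomFrame
import Groth.Agent.CurvLib.StalkSum
import Groth.Agent.ExtShLib.Contra
import Groth.Agent.MiscFlat6.FreeStalks
import Mathlib.LinearAlgebra.Dual.Lemmas

/-!
# The evaluation into the double dual against an invertible sheaf
-/

set_option autoImplicit false
set_option linter.style.haveILetI false
set_option linter.unusedSectionVars false
set_option backward.isDefEq.respectTransparency false
set_option backward.isDefEq.respectTransparency.types false
universe u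

open CategoryTheory CategoryTheory.Limits AlgebraicGeometry TopologicalSpace Opposite
open CohCmpLib (stk homMod curryMod evMod evS evS_ger evS_ext evS_evMod_curry curryMod_comp hom_homMod_ext HomEv)
open PnDualLib (preMap)
open KFlatLib (tens shTm)
open ProjFormLib (ger res ger_res ger_map exists_ger)

noncomputable section

namespace SurfExtLib

variable {X : Scheme.{u}}

theorem tensSwap_shTm (M N : X.Modules) {U : X.Opens} (n : Γ(N, U)) (m : Γ(M, U)) :
    (KFlatLib.tensSwap M N).hom.app U (shTm n m) = shTm m n :=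
  KFlatLib.shApp_map (M := N) (N := M) (β_ (DCoh.toP.obj N) (DCoh.toP.obj M)).hom U _

variable (ω : X.Modules)

/-- Evaluation, with the arguments exchanged. -/
def evHom (F : X.Modules) : tens (homMod F ω) F ⟶ ω :=
  (KFlatLib.tensSwap F (homMod F ω)).hom ≫ evMod F ω

theorem evS_evHom (F : X.Modules) (y : X) (a : stk F y) (h : stk (homMod F ω) y) :
    evS (evHom ω F) y a h = evS (evMod F ω) y h a := by
  obtain ⟨V, hy, a, rfl⟩ := exists_ger F y a
  obtain ⟨V', hy', h, rfl⟩ := exists_ger (homMod F ω) y h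
  rw [← ger_res F (inf_le_left : V ⊓ V' ≤ V) y ⟨hy, hy'⟩ a,
    ← ger_res (homMod F ω) (inf_le_right : V ⊓ V' ≤ V') y ⟨hy, hy'⟩ h, evS_ger, evS_ger]
  refine congrArg (ger ω y _) ?_
  show (evMod F ω).app _ ((KFlatLib.tensSwap F (homMod F ω)).hom.app _ (shTm _ _)) = _
  rw [tensSwap_shTm]

/-- `F → ℋom(ℋom(F, ω), ω)`. -/
def ev (F : X.Modules) : F ⟶ homMod (homMod F ω) ω := curryMod (evHom ω F)

theorem ev_natural {A B : X.Modules} (f : A ⟶ B) :
    ev ω A ≫ preMap (preMap f ω) ω = f ≫ ev ω B := by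
  refine hom_homMod_ext (evS_ext fun y a => LinearMap.ext fun h => ?_)
  rw [CohCmpLib.evS_map, CohCmpLib.evS_map, Functor.map_comp, Functor.map_comp]
  change evS (evMod (homMod B ω) ω) y
      (((DerSch.stalkFunctor X y).map (preMap (preMap f ω) ω)).hom (((DerSch.stalkFunctor X y).map (ev ω A)).hom a)) h =
    evS (evMod (homMod B ω) ω) y (((DerSch.stalkFunctor X y).map (ev ω B)).hom (((DerSch.stalkFunctor X y).map f).hom a)) h
  rw [PnDualLib.evS_preMap, ev, ev, evS_evMod_curry, LinearMap.comp_apply, evS_evHom, evS_evMod_curry, evS_evHom,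
    PnDualLib.evS_preMap, LinearMap.comp_apply]

theorem homEv_evHom (hω : PicF.IsInvertible ω) {F : X.Modules} (hF : FlatMod.IsFinLocFree F) :
    HomEv (evHom ω F) := fun y => by
  obtain ⟨n, ⟨eF⟩⟩ := LocSuppLib.nonempty_stalk_pi hF y
  obtain ⟨eω0⟩ := CurvLib.nonempty_stalk_pi_of_locFree (CurvLib.locFree_of_isInvertible hω) y
  let eω : stk ω y ≃ₗ[X.presheaf.stalk y] X.presheaf.stalk y := eω0 ≪≫ₗ LinearEquiv.funUnique (Fin 1) _ _
  haveI : Module.Free (X.presheaf.stalk y) (stk F y) := Module.Free.of_equiv eF.symm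
  haveI : Module.Finite (X.presheaf.stalk y) (stk F y) := Module.Finite.equiv eF.symm
  let ψ : stk (homMod F ω) y ≃ₗ[X.presheaf.stalk y] Module.Dual (X.presheaf.stalk y) (stk F y) :=
    LinearEquiv.ofBijective (evS (evMod F ω) y) (CohCmpLib.homEv_evMod hF y) ≪≫ₗ LinearEquiv.congrRight eω
  let Φ : stk F y ≃ₗ[X.presheaf.stalk y] (stk (homMod F ω) y →ₗ[X.presheaf.stalk y] stk ω y) :=
    Module.evalEquiv (X.presheaf.stalk y) (stk F y) ≪≫ₗ LinearEquiv.arrowCongr ψ.symm eω.symm
  have hΦ : ⇑(evS (evHom ω F) y) = ⇑Φ := funext fun a => LinearMap.ext fun h => by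
    rw [evS_evHom]
    refine eω.injective ?_
    simp [Φ, ψ, LinearEquiv.congrRight]
  rw [hΦ]
  exact Φ.bijective

theorem isIso_ev (hω : PicF.IsInvertible ω) {F : X.Modules} (hF : FlatMod.IsFinLocFree F) : IsIso (ev ω F) :=
  CohCmpLib.isIso_of_homEv (φ := evHom ω F) (φ' := evMod (homMod F ω) ω) (ev ω F) (curryMod_comp _)
    (homEv_evHom ω hω hF)
    (CohCmpLib.homEv_evMod (CohCmpLib.isFinLocFree_homMod hF
      (CurveVBLib.isFinLocFree_of_rank (CurvLib.locFree_of_isInvertible hω))))

end SurfExtLib
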