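import Groth.Agent.SurfExtLib.Pure
import Groth.Agent.QCohLib.Affine
import Groth.Agent.OmegaTFLib.Torsion
import Groth.Agent.WeilExtLib.Codim

/-!
# Sheaves with finite support on a surface
-/

set_option autoImplicit false
set_option linter.style.haveILetI false
set_option linter.unusedSectionVars false
set_option backward.isDefEq.respectTransparency false
set_option backward.isDefEq.respectTransparency.types false
universe u

open CategoryTheory CategoryTheory.Limits AlgebraicGeometry TopologicalSpace Opposite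
open CohCmpLib (stk homMod hVal homMod_ext)
open ProjFormLib (ger res ger_res ger_smul exists_ger section_ext)
open PnDualLib (homFun)
open ExtShLib (hcx)

noncomputable section

namespace SurfExtLib

variable {S : Scheme.{u}}

theorem subsingleton_stk {M : S.Modules} {x : S} (h : x ∉ CohB1.support M) : Subsingleton (stk M x) :=
  ModuleCat.subsingleton_of_isZero ((DevissLib.notMem_support_iff M x).1 h)

/-- The stalks of `ℋom(C, W)` vanish off the support of `C`. -/
theorem subsingleton_homMod_stalk {C W : S.Modules} (hC : CohB1.IsFT C) {y : S} (hy : y ∉ CohB1.support C) :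
    Subsingleton (stk (homMod C W) y) := by
  refine subsingleton_of_forall_eq 0 fun a => ?_
  obtain ⟨U, hyU, h, rfl⟩ := exists_ger (homMod C W) y a
  let V : S.Opens := U ⊓ ⟨(CohB1.support C)ᶜ, (QCohLib.isClosed_support C hC).isOpen_compl⟩
  have hV : res (homMod C W) (inf_le_left : V ≤ U) h = 0 := homMod_ext fun z hz => LinearMap.ext fun t => by
    haveI := subsingleton_stk (M := C) (x := z) hz.2
    rw [Subsingleton.elim t 0, map_zero, map_zero]
  rw [← ger_res (homMod C W) (inf_le_left : V ≤ U) y ⟨hyU, hy⟩ h, hV]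
  exact CohCmpLib.ger_zero _ _ _

theorem subsingleton_hcx_homology_stalk {C G : S.Modules} (I : InjectiveResolution G) (hC : CohB1.IsFT C) (q : ℕ)
    {y : S} (hy : y ∉ CohB1.support C) : Subsingleton (stk ((hcx C I).homology q) y) := by
  haveI : Subsingleton (stk ((hcx C I).X q) y) := subsingleton_homMod_stalk hC hy
  haveI : Subsingleton (stk ((hcx C I).cycles q) y) :=
    (FLI.sMap_injective ((hcx C I).iCycles q) y).subsingleton
  exact (FLI.sMap_surjective ((hcx C I).homologyπ q) y).subsingleton

variable [IsLocallyNoetherian S] (hdim : topologicalKrullDim S ≤ 2)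
  (hreg : ∀ x : S, IsRegularLocalRing (S.presheaf.stalk x))

include hreg in
/-- A module of homological dimension one has no sections at isolated closed points of its support. -/
theorem IsP1.subsingleton_isolated {B : S.Modules} (hB : IsP1 B) {x : S}
    (hx : ringKrullDim (S.presheaf.stalk x) = 2) (U : S.Opens) (hxU : x ∈ U)
    (hU : ∀ y ∈ U, y ≠ x → y ∉ CohB1.support B) : Subsingleton (stk B x) := by
  haveI := hreg x
  haveI := finite_stk hB.coh x
  haveI : Coh.IsQCoh B := hB.coh.1
  have h : ((1 : ℕ) : ℕ∞) ≤ LocCoh.depth (S.presheaf.stalk x) (stk B x) :=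
    (DepthLib.le_depth_iff_pdlt _ _ (d := 2) (by exact_mod_cast hx) (by omega)).2 (hB.pd x)
  obtain ⟨rs, hl, hm, hr⟩ := InvLib.hasSeq_of_le_depth h
  obtain ⟨a, rfl⟩ := List.length_eq_one_iff.1 hl
  rw [RingTheory.Sequence.isWeaklyRegular_cons_iff] at hr
  refine subsingleton_of_forall_eq 0 fun t => ?_
  obtain ⟨U₁, hxU₁, s, rfl⟩ := exists_ger B x t
  obtain ⟨U₂, hxU₂, f, hf⟩ := S.presheaf.exists_germ_eq (x := x) a
  obtain ⟨_, ⟨V, hV, rfl⟩, hxV, hVle⟩ := S.isBasis_affineOpens.exists_subset_of_mem_open
    (show x ∈ U ⊓ (U₁ ⊓ U₂) from ⟨hxU, hxU₁, hxU₂⟩) (U ⊓ (U₁ ⊓ U₂)).isOpen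
  have hV0 : V ≤ U := fun y hy => (hVle hy).1
  have hV1 : V ≤ U₁ := fun y hy => (hVle hy).2.1
  have hV2 : V ≤ U₂ := fun y hy => (hVle hy).2.2
  let f' : Γ(S, V) := S.presheaf.map (homOfLE hV2).op f
  have hf' : S.presheaf.germ V x hxV f' = a := by
    rw [TopCat.Presheaf.germ_res_apply S.presheaf (homOfLE hV2) x hxV f, hf]
  have hres : B.presheaf.map (homOfLE (S.basicOpen_le f')).op (res B hV1 s) = 0 := by
    refine section_ext _ _ fun y hy => ?_
    have hne : y ≠ x := by
      rintro rfl
      have hu := (Scheme.mem_basicOpen (X := S) f' y hxV).1 hy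
      rw [hf'] at hu
      exact (IsLocalRing.mem_maximalIdeal _).1 (hm a (List.mem_singleton.2 rfl)) hu
    haveI := subsingleton_stk (M := B) (hU y (hV0 (S.basicOpen_le f' hy)) hne)
    exact Subsingleton.elim (α := stk B y) _ _
  obtain ⟨n, hn⟩ := (QCohLib.localizingAt_of_isQCoh hV B f').eq_zero (res B hV1 s) hres
  have h1 := congrArg (ger B x hxV) hn
  rw [ger_smul, CohCmpLib.ger_zero, ger_res] at h1
  have h2 : a ^ n • ger B x hxU₁ s = 0 := by
    rw [← hf', ← map_pow]
    refine Eq.trans ?_ h1
    congr 2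
    simp
  exact (IsSMulRegular.pow n hr.1) (h2.trans (smul_zero _).symm)

omit [IsLocallyNoetherian S] in
theorem dim_le_zero_of_closed_points [NoetherianSpace S] {T : Set S} (hT : IsClosed T)
    (h : ∀ y ∈ T, IsClosed ({y} : Set S)) : topologicalKrullDim T ≤ 0 := by
  have h1 : topologicalKrullDim T < (1 : ℕ) := OmegaTF.dim_lt_of_points hT fun y hy => by
    rw [(h y hy).closure_eq]
    exact lt_of_le_of_lt (topologicalKrullDim_zero_of_discreteTopology _) (by norm_num)
  by_contra hn
  exact not_le.2 h1 (by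
    rw [Nat.cast_one]
    exact Order.succ_le_of_lt (not_le.1 hn))

end SurfExtLib
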