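import Groth.Agent.SurfExtLib.CBPoint
import Groth.Agent.GenFlatStrat.FGExtend
import Groth.Agent.KFlatLib.StalkTensor
import Groth.Agent.MeroLib.ZeroScheme
import Groth.Prelude.Def_LogNCD2

/-!
# The ideal of finitely many closed points, twisted by a module
-/

set_option autoImplicit false
set_option linter.style.haveILetI false
set_option linter.unusedSectionVars false
set_option backward.isDefEq.respectTransparency false
set_option backward.isDefEq.respectTransparency.types false
set_option maxHeartbeats 800000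
universe u

open CategoryTheory CategoryTheory.Limits AlgebraicGeometry TopologicalSpace Opposite
open CohCmpLib (stk)
open ProjFormLib (ger ger_map ger_smul exists_ger)
open scoped TensorProduct

noncomputable section

namespace SurfExtLib

variable {X : Scheme.{u}}

theorem smul_oneAt_injective (x : X) : Function.Injective fun c : X.presheaf.stalk x => c • oneAt x := by
  obtain ⟨u⟩ := RefHullLib.nonempty_stalk_unit X x
  obtain ⟨e, he⟩ := exists_smul_oneAt x (u 1)
  intro c c' h
  have h1 : e * u.symm (oneAt x) = 1 := by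
    rw [← smul_eq_mul, ← map_smul, he, LinearEquiv.symm_apply_apply]
  have h2 : c * u.symm (oneAt x) = c' * u.symm (oneAt x) := by
    rw [← smul_eq_mul, ← map_smul, ← smul_eq_mul c', ← map_smul]
    exact congrArg u.symm h
  exact (IsUnit.of_mul_eq_one_right _ h1).mul_right_cancel h2

/-- Membership in a vanishing ideal, at the level of germs. -/
theorem mem_vanishingIdeal_ideal_iff (C : Closeds X) (W : X.affineOpens) (f : Γ(X, W.1)) :
    f ∈ (Scheme.IdealSheafData.vanishingIdeal C).ideal W ↔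
      ∀ (x : X) (hx : x ∈ W.1), x ∈ C → X.presheaf.germ W.1 x hx f ∈ IsLocalRing.maximalIdeal _ := by
  rw [Scheme.IdealSheafData.vanishingIdeal_ideal, PrimeSpectrum.mem_vanishingIdeal]
  have key : ∀ p, f ∈ p.asIdeal ↔ W.2.fromSpec p ∉ X.basicOpen f := fun p => by
    rw [← not_iff_not, not_not, ← PrimeSpectrum.mem_basicOpen, ← W.2.fromSpec_preimage_basicOpen f]
    rfl
  constructor
  · intro h x hx hxC
    obtain ⟨p, rfl⟩ : x ∈ Set.range W.2.fromSpec := by rw [W.2.range_fromSpec]; exact hx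
    rw [IsLocalRing.mem_maximalIdeal, mem_nonunits_iff, ← X.mem_basicOpen f _ hx, ← key]
    exact h p hxC
  · intro h p hp
    have hmem : W.2.fromSpec p ∈ W.1 := W.2.range_fromSpec.subset ⟨p, rfl⟩
    rw [key, X.mem_basicOpen f _ hmem]
    exact h _ hmem hp

variable (T : Finset X) (hT : IsClosed (T : Set X))

/-- The ideal sheaf of the finite set. -/
abbrev ptsI : X.IdealSheafData := Scheme.IdealSheafData.vanishingIdeal ⟨(T : Set X), hT⟩

/-- Germs of sections of the ideal. -/
theorem value_mem {x : X} (hx : x ∈ T) (a : stk (ClSub.idealMod (ptsI T hT)) x) (c : X.presheaf.stalk x)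
    (h : FLI.sMap (ClSub.idealModι (ptsI T hT)) x a = c • oneAt x) : c ∈ IsLocalRing.maximalIdeal _ := by
  obtain ⟨U, hxU, s, rfl⟩ := exists_ger _ x a
  obtain ⟨W, hW, hxW, hWU⟩ := exists_isAffineOpen_mem_and_subset hxU
  rw [← ProjFormLib.ger_res _ (hWU : W ≤ U) x hxW s] at h
  have h1 := GenFlatStrat.idealModι_mem (ptsI T hT) ⟨W, hW⟩ (AmpleLib.res _ (hWU : W ≤ U) s)
  have h2 := (ger_map (ClSub.idealModι (ptsI T hT)) x hxW _).symm.trans h
  rw [← smul_oneAt_injective x ((FLI.ger_smul_one x hxW (OmegaSh.fnSect X W ((ClSub.idealModι (ptsI T hT)).app W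
    (AmpleLib.res _ (hWU : W ≤ U) s)))).symm.trans h2)]
  exact (mem_vanishingIdeal_ideal_iff _ ⟨W, hW⟩ _).1 h1 x hxW hx

/-- A neighbourhood missing the other points. -/
theorem exists_affine_avoid (hpts : ∀ t ∈ T, IsClosed ({t} : Set X)) (x : X) {U : X.Opens} (hxU : x ∈ U) :
    ∃ W : X.affineOpens, x ∈ W.1 ∧ W.1 ≤ U ∧ ∀ y ∈ W.1, y ∈ T → y = x := by
  classical
  let C : Set X := ⋃ t ∈ T.erase x, {t}
  have hC : IsClosed C := isClosed_biUnion_finset fun t ht => hpts t (Finset.mem_of_mem_erase ht)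
  let U' : X.Opens := U ⊓ ⟨Cᶜ, hC.isOpen_compl⟩
  have hxU' : x ∈ U' := ⟨hxU, by
    show x ∉ C
    simp [C]⟩
  obtain ⟨W, hW, hxW, hWU⟩ := exists_isAffineOpen_mem_and_subset hxU'
  refine ⟨⟨W, hW⟩, hxW, fun y hy => (hWU hy).1, fun y hy hyT => by_contra fun hne => ?_⟩
  exact (hWU hy).2 (Set.mem_biUnion (Finset.mem_erase.2 ⟨hne, hyT⟩) rfl)

/-- Every allowed germ is a value. -/
theorem exists_value (hpts : ∀ t ∈ T, IsClosed ({t} : Set X)) (x : X) (c : X.presheaf.stalk x)
    (hc : x ∈ T → c ∈ IsLocalRing.maximalIdeal _) :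
    ∃ a : stk (ClSub.idealMod (ptsI T hT)) x, FLI.sMap (ClSub.idealModι (ptsI T hT)) x a = c • oneAt x := by
  obtain ⟨V, hxV, r, rfl⟩ := X.presheaf.exists_germ_eq (x := x) c
  obtain ⟨W, hxW, hWV, hWT⟩ := exists_affine_avoid T hpts x hxV
  let f : Γ(X, W.1) := X.presheaf.map (homOfLE hWV).op r
  have hf : X.presheaf.germ W.1 x hxW f = X.presheaf.germ V x hxV r :=
    TopCat.Presheaf.germ_res_apply X.presheaf (homOfLE hWV) x hxW r
  obtain ⟨s, hs⟩ := GenFlatStrat.exists_idealMod_section (ptsI T hT) W f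
    ((mem_vanishingIdeal_ideal_iff _ W f).2 fun y hy hyT => by
      obtain rfl := hWT y hy hyT
      rw [hf]
      exact hc hyT)
  refine ⟨ger _ x hxW s, (ger_map _ x hxW s).trans ?_⟩
  rw [← hf]
  exact (congrArg (ger (Coh.structureModule X) x hxW) hs).trans (FLI.ger_smul_one x hxW f)

/-- The twisted inclusion of an ideal. -/
abbrev muHom (M : X.Modules) (I : X.IdealSheafData) : CohB1.tensorMod M (ClSub.idealMod I) ⟶ M :=
  KoszTw.tensorMap (𝟙 M) (ClSub.idealModι I) ≫ (SecTwist.unitorR M).hom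

variable (M : X.Modules)

theorem muHom_stalk (I : X.IdealSheafData) (x : X) (m : stk M x) (a : stk (ClSub.idealMod I) x)
    (c : X.presheaf.stalk x) (h : FLI.sMap (ClSub.idealModι I) x a = c • oneAt x) :
    FLI.sMap (muHom M I) x (KFlatLib.stalkTensorLin M (ClSub.idealMod I) x (m ⊗ₜ a)) = c • m := by
  obtain ⟨U, hx, m, a, rfl, rfl⟩ := KFlatLib.exists_germ₂ (M := M) (N := ClSub.idealMod I) x m a
  have h2 : ger (Coh.structureModule X) x hx ((ClSub.idealModι I).app U a) = c • oneAt x :=
    (ger_map (ClSub.idealModι I) x hx a).symm.trans h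
  rw [KFlatLib.stalkTensorLin_germ, ← smul_oneAt_injective x
    ((FLI.ger_smul_one x hx (show Γ(X, U) from (ClSub.idealModι I).app U a)).symm.trans h2)]
  refine (ger_map (muHom M I) x hx (SecTwist.tmul M (ClSub.idealMod I) U m a)).trans ?_
  refine Eq.trans ?_ (ger_smul M x hx _ m)
  refine congrArg (ger M x hx) ?_
  show (SecTwist.unitorR M).hom.app U ((KoszTw.tensorMap (𝟙 M) (ClSub.idealModι I)).app U
    (SecTwist.tmul M (ClSub.idealMod I) U m a)) = _
  rw [KoszTw.tensorMap_tmul]
  exact SecTwist.unitorR_tmul M U m _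

/-- The image in the stalk at a point of the set. -/
theorem range_muHom {x : X} (hpts : ∀ t ∈ T, IsClosed ({t} : Set X)) (hx : x ∈ T) :
    LinearMap.range ((DerSch.stalkFunctor X x).map (muHom M (ptsI T hT))).hom =
      IsLocalRing.maximalIdeal (X.presheaf.stalk x) • (⊤ : Submodule (X.presheaf.stalk x) (stk M x)) := by
  refine le_antisymm ?_ (Submodule.smul_le.2 fun c hc m _ => ?_)
  · rintro _ ⟨w, rfl⟩
    obtain ⟨v, rfl⟩ := (KFlatLib.stalkTensorLin_bijective M (ClSub.idealMod (ptsI T hT)) x).2 w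
    induction v using TensorProduct.induction_on with
    | zero => rw [map_zero, map_zero]; exact zero_mem _
    | tmul m a =>
      obtain ⟨c, hc⟩ := exists_smul_oneAt x (FLI.sMap (ClSub.idealModι (ptsI T hT)) x a)
      change FLI.sMap _ x _ ∈ _
      rw [muHom_stalk M _ x m a c hc.symm]
      exact Submodule.smul_mem_smul (value_mem T hT hx a c hc.symm) trivial
    | add p q hp hq => rw [map_add, map_add]; exact add_mem hp hq
  · obtain ⟨a, ha⟩ := exists_value T hT hpts x c (fun _ => hc)
    exact ⟨_, muHom_stalk M _ x m a c ha⟩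

/-- Off the set the inclusion is onto. -/
theorem muHom_surjective {x : X} (hpts : ∀ t ∈ T, IsClosed ({t} : Set X)) (hx : x ∉ T) :
    Function.Surjective (FLI.sMap (muHom M (ptsI T hT)) x) := fun m => by
  obtain ⟨a, ha⟩ := exists_value T hT hpts x 1 (fun h => absurd h hx)
  exact ⟨_, (muHom_stalk M _ x m a 1 ha).trans (one_smul _ m)⟩

/-- Sections of the zero scheme. -/
theorem mem_support_zeroScheme {L : X.Modules} (hL : PicF.IsInvertible L) (s : Coh.structureModule X ⟶ L)
    (x : X) : x ∈ (PicF2.zeroScheme L s).support ↔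
      FLI.sMap s x (oneAt x) ∈
        IsLocalRing.maximalIdeal (X.presheaf.stalk x) • (⊤ : Submodule (X.presheaf.stalk x) (stk L x)) := by
  obtain ⟨U, e, hxU, he⟩ := TwistLib.exists_genOn hL x
  obtain ⟨W, hW, hxW, hWU⟩ := exists_isAffineOpen_mem_and_subset hxU
  have hg := he.res (hWU : W ≤ U)
  obtain ⟨c, hc⟩ := (hg W le_rfl).2 (MeroLib.secOn s W)
  simp only [AmpleLib.res_refl] at hc
  have hI := MeroLib.zeroScheme_ideal_of_genOn (W := ⟨W, hW⟩) hL s hg hc
  have h2 := Set.ext_iff.mp (Scheme.IdealSheafData.coe_support_inter (PicF2.zeroScheme L s) ⟨W, hW⟩) x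
  simp only [hI, Set.mem_inter_iff, Scheme.zeroLocus_span, Scheme.mem_zeroLocus_iff, Set.mem_singleton_iff,
    forall_eq, SetLike.mem_coe, hxW, and_true] at h2
  have h1 : FLI.sMap s x (oneAt x) = X.presheaf.germ W x hxW c • ger L x hxW (AmpleLib.res L hWU e) := by
    rw [← ger_smul]
    refine (ger_map s x (U := ⊤) trivial _).trans ?_
    refine Eq.trans ?_ (congrArg (ger L x hxW) hc).symm
    rw [← MeroLib.secOn_res s (le_top : W ≤ ⊤)]
    exact (ProjFormLib.ger_res L le_top x hxW _).symm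
  have hgen := hg.genAt hxW
  rw [h2, h1, X.mem_basicOpen c x hxW]
  constructor
  · intro h
    exact Submodule.smul_mem_smul ((IsLocalRing.mem_maximalIdeal _).2 h) trivial
  · intro h
    let e' : X.presheaf.stalk x ≃ₗ[X.presheaf.stalk x] stk L x :=
      LinearEquiv.ofBijective (LinearMap.toSpanSingleton _ _ (ger L x hxW (AmpleLib.res L hWU e))) hgen
    have key : ∀ y ∈ IsLocalRing.maximalIdeal (X.presheaf.stalk x) •
        (⊤ : Submodule (X.presheaf.stalk x) (stk L x)), e'.symm y ∈ IsLocalRing.maximalIdeal (X.presheaf.stalk x) :=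
      fun y hy => Submodule.smul_induction_on hy
        (fun a ha m _ => by rw [map_smul, smul_eq_mul]; exact Ideal.mul_mem_right _ _ ha)
        (fun p q hp hq => by rw [map_add]; exact add_mem hp hq)
    have h2 := key _ h
    rw [show X.presheaf.germ W x hxW c • ger L x hxW (AmpleLib.res L hWU e) = e' (X.presheaf.germ W x hxW c) from rfl,
      LinearEquiv.symm_apply_apply] at h2
    exact (IsLocalRing.mem_maximalIdeal _).1 h2

end SurfExtLib

end
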