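import Groth.Agent.SurfExtLib.CBCore
import Groth.Agent.SurfExtLib.CBIdeal
import Groth.Agent.HilbPolyLib.Twist
import Groth.Agent.CurvLib.Divisor
import Groth.Agent.AdjFormLib.Ext
import Groth.Agent.MiscFlat6.InvDual
import Groth.Agent.HopfIneqLib.Sections

/-!
# The subsheaves of an invertible module vanishing on finitely many points
-/

set_option autoImplicit false
set_option linter.style.haveILetI false
set_option linter.unusedSectionVars false
set_option backward.isDefEq.respectTransparency false
set_option backward.isDefEq.respectTransparency.types false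
set_option maxHeartbeats 1600000
universe u

open CategoryTheory CategoryTheory.Limits AlgebraicGeometry TopologicalSpace Opposite
open CohCmpLib (stk)
open ProjFormLib (ger ger_map exists_ger)

noncomputable section

namespace SurfExtLib

variable {X : Scheme.{u}} [IsLocallyNoetherian X]

theorem isCoh_idealMod (I : X.IdealSheafData) : Coh.IsCoh (ClSub.idealMod I) :=
  QCohLib.isCoh_kernel (ClSub.toSubscheme I) (DevissLib.isCoh_structureModule X) (CurvLib.isCoh_quotMod I).1

/-- A generator of a stalk. -/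
theorem exists_gen {M : X.Modules} (hM : PicF.IsInvertible M) (x : X) :
    ∃ g : stk M x, Function.Bijective fun c : X.presheaf.stalk x => c • g := by
  obtain ⟨U, e, hxU, he⟩ := TwistLib.exists_genOn hM x
  exact ⟨_, he.genAt hxU⟩

variable {M : X.Modules} (hM : PicF.IsInvertible M) (T : Finset X) (hT : IsClosed (T : Set X))

/-- The sections of `M` vanishing on `T`. -/
abbrev vanMod (M : X.Modules) : X.Modules := CohB1.tensorMod M (ClSub.idealMod (ptsI T hT))

/-- Its inclusion. -/
abbrev vanι (M : X.Modules) : vanMod T hT M ⟶ M := muHom M (ptsI T hT)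

include hM in
theorem mono_vanι : Mono (vanι T hT M) := by
  haveI := (HilbPolyLib.shortExact_tensor hM (CurvLib.idealSeq_shortExact (ptsI T hT))).mono_f
  haveI : Mono (KoszTw.tensorMap (𝟙 M) (ClSub.idealModι (ptsI T hT))) := by
    rw [← KoszTw.tensorBi_obj_map]
    exact (HilbPolyLib.shortExact_tensor hM (CurvLib.idealSeq_shortExact (ptsI T hT))).mono_f
  exact mono_comp _ _

include hM in
theorem isCoh_vanMod : Coh.IsCoh (vanMod T hT M) := HilbPolyLib.isCoh_tensor hM (isCoh_idealMod _)

include hM in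
theorem vanι_injective (x : X) : Function.Injective (FLI.sMap (vanι T hT M) x) := by
  haveI := mono_vanι hM T hT
  exact FLI.sMap_injective _ x

include hM in
theorem free_vanMod {x : X} (hpts : ∀ t ∈ T, IsClosed ({t} : Set X)) (hx : x ∉ T) :
    Module.Free (X.presheaf.stalk x) (stk (vanMod T hT M) x) := by
  haveI := MiscFlat6.free_stalk_of_isFinLocFree
    (CurveVBLib.isFinLocFree_of_rank (CurvLib.locFree_of_isInvertible hM)) x
  exact Module.Free.of_equiv (LinearEquiv.ofBijective ((DerSch.stalkFunctor X x).map (vanι T hT M)).hom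
    ⟨vanι_injective hM T hT x, muHom_surjective T hT M hpts hx⟩).symm (R := X.presheaf.stalk x)
    (M := (M.presheaf.stalk x))

include hM in
theorem tfStalks_vanMod [IsIntegral X] : TfStalks (vanMod T hT M) := fun x a ha s t hst => by
  haveI := MiscFlat6.free_stalk_of_isFinLocFree
    (CurveVBLib.isFinLocFree_of_rank (CurvLib.locFree_of_isInvertible hM)) x
  haveI : Module.IsTorsionFree (X.presheaf.stalk x) (M.presheaf.stalk x) := inferInstance
  refine vanι_injective hM T hT x (Module.IsTorsionFree.isSMulRegular (M := M.presheaf.stalk x)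
    (IsRegular.of_ne_zero ha) ?_)
  have h := congrArg ((DerSch.stalkFunctor X x).map (vanι T hT M)).hom hst
  rw [map_smul, map_smul] at h
  exact h

include hM in
theorem notMem_smul_top {x : X} {g : stk M x} (hg : Function.Bijective fun c : X.presheaf.stalk x => c • g) :
    g ∉ IsLocalRing.maximalIdeal (X.presheaf.stalk x) • (⊤ : Submodule (X.presheaf.stalk x) (stk M x)) := by
  intro h
  let e : X.presheaf.stalk x ≃ₗ[X.presheaf.stalk x] stk M x :=
    LinearEquiv.ofBijective (LinearMap.toSpanSingleton _ _ g) hg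
  have key : ∀ y ∈ IsLocalRing.maximalIdeal (X.presheaf.stalk x) •
      (⊤ : Submodule (X.presheaf.stalk x) (stk M x)), e.symm y ∈ IsLocalRing.maximalIdeal (X.presheaf.stalk x) :=
    fun y hy => Submodule.smul_induction_on hy
      (fun a ha m _ => by rw [map_smul, smul_eq_mul]; exact Ideal.mul_mem_right _ _ ha)
      (fun p q hp hq => by rw [map_add]; exact add_mem hp hq)
  have h2 := key _ h
  rw [show g = e 1 from (one_smul (X.presheaf.stalk x) g).symm, LinearEquiv.symm_apply_apply] at h2
  exact (IsLocalRing.maximalIdeal.isMaximal _).ne_top ((Ideal.eq_top_iff_one _).2 h2)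

/-- A map factors through the subsheaf as soon as it does so on stalks. -/
theorem exists_lift {A B P : X.Modules} (μ : P ⟶ B) [Mono μ] (f : A ⟶ B)
    (h : ∀ (x : X) (t : stk A x), ∃ p, FLI.sMap μ x p = FLI.sMap f x t) : ∃ a : A ⟶ P, a ≫ μ = f := by
  refine ⟨Abelian.monoLift μ f ?_, Abelian.monoLift_comp μ f _⟩
  refine InjModLib.hom_ext_stalks _ _ fun x t => ?_
  obtain ⟨p, hp⟩ := h x t
  show FLI.sMap (f ≫ cokernel.π μ) x t = FLI.sMap (0 : A ⟶ cokernel μ) x t
  rw [FLI.sMap_comp, ← hp, ← FLI.sMap_comp, cokernel.condition, FLI.sMap_zero, FLI.sMap_zero]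

/-- A map from the structure sheaf is determined by the images of one. -/
theorem hom_ext_oneAt {B : X.Modules} {f g : Coh.structureModule X ⟶ B}
    (h : ∀ x, FLI.sMap f x (oneAt x) = FLI.sMap g x (oneAt x)) : f = g :=
  InjModLib.hom_ext_stalks f g fun x t => by
    obtain ⟨c, rfl⟩ := exists_smul_oneAt x t
    rw [map_smul, map_smul]
    exact congrArg (c • ·) (h x)

section Step

variable [IsIntegral X] {Z : Finset X} (hZc : IsClosed (Z : Set X)) (hZ : ∀ t ∈ Z, IsClosed ({t} : Set X))

include hM hZ in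
/-- Removing one point is a step, and sections are detected at the points. -/
theorem exists_step (z : X) (hz : z ∈ Z) :
    ∃ (P K : X.Modules) (a : vanMod Z hZc M ⟶ P) (b : P ⟶ K) (w : a ≫ b = 0),
      IsStep (ShortComplex.mk a b w) z ∧
      ((∀ s : Coh.structureModule X ⟶ P, s ≫ b = 0) ↔
        ∀ σ : Coh.structureModule X ⟶ M,
          (∀ z' ∈ Z, z' ≠ z → z' ∈ (PicF2.zeroScheme M σ).support) → z ∈ (PicF2.zeroScheme M σ).support) := by
  classical
  let T := Z.erase z
  have hTp : ∀ t ∈ T, IsClosed ({t} : Set X) := fun t ht => hZ t (Finset.mem_of_mem_erase ht)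
  have hT : IsClosed (T : Set X) := by
    rw [← Set.biUnion_of_singleton (T : Set X)]
    exact isClosed_biUnion_finset hTp
  haveI := mono_vanι hM T hT
  haveI := mono_vanι hM Z hZc
  obtain ⟨a, ha⟩ := exists_lift (vanι T hT M) (vanι Z hZc M) fun x t => by
    by_cases hx : x ∈ T
    · have h1 : FLI.sMap (vanι Z hZc M) x t ∈
          LinearMap.range ((DerSch.stalkFunctor X x).map (vanι Z hZc M)).hom := ⟨t, rfl⟩
      rw [range_muHom Z hZc M hZ (Finset.mem_of_mem_erase hx), ← range_muHom T hT M hTp hx] at h1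
      exact h1
    · exact muHom_surjective T hT M hTp hx _
  haveI : Mono a := by
    haveI : Mono (a ≫ vanι T hT M) := by rw [ha]; infer_instance
    exact mono_of_mono a (vanι T hT M)
  let K := cokernel a
  let b := cokernel.π a
  have hex : (ShortComplex.mk a b (cokernel.condition a)).Exact := ShortComplex.exact_cokernel a
  have hcomp : ∀ (x : X) (t : stk (vanMod Z hZc M) x),
      FLI.sMap (vanι T hT M) x (FLI.sMap a x t) = FLI.sMap (vanι Z hZc M) x t := fun x t => by
    rw [← FLI.sMap_comp, ha]
  have hcok : ∀ (x : X) (p : stk (vanMod T hT M) x), FLI.sMap b x p = 0 ↔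
      FLI.sMap (vanι T hT M) x p ∈ LinearMap.range ((DerSch.stalkFunctor X x).map (vanι Z hZc M)).hom := by
    intro x p
    constructor
    · intro hp
      obtain ⟨t, rfl⟩ := FLI.exists_of_exact a b (cokernel.condition a) hex x (b := p) hp
      exact ⟨t, (hcomp x t).symm⟩
    · rintro ⟨t, ht⟩
      rw [show p = FLI.sMap a x t from vanι_injective hM T hT x (ht.symm.trans (hcomp x t).symm),
        ← FLI.sMap_comp, cokernel.condition, FLI.sMap_zero]
  have hzT : z ∉ T := Finset.notMem_erase z Z
  obtain ⟨g, hg⟩ := exists_gen hM z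
  obtain ⟨t₀, ht₀⟩ := muHom_surjective T hT M hTp hzT g
  have hPcoh := isCoh_vanMod hM T hT
  have hK : IsPt K z := by
    refine ⟨hZ z hz, QCohLib.isCoh_cokernel a (isCoh_vanMod hM Z hZc).1 hPcoh, fun y hy => ?_,
      ⟨FLI.sMap b z t₀, fun h0 => ?_, fun t => ?_⟩, fun r hr t => ?_⟩
    · by_contra hne
      apply hy
      refine subsingleton_of_forall_eq 0 fun q => ?_
      obtain ⟨p, rfl⟩ := FLI.sMap_surjective b y q
      refine (hcok y p).2 ?_
      by_cases hyZ : y ∈ Z
      · rw [range_muHom Z hZc M hZ hyZ, ← range_muHom T hT M hTp (Finset.mem_erase.2 ⟨hne, hyZ⟩)]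
        exact ⟨p, rfl⟩
      · exact muHom_surjective Z hZc M hZ hyZ _
    · have h1 := (hcok z t₀).1 h0
      rw [range_muHom Z hZc M hZ hz, ht₀] at h1
      exact notMem_smul_top hM hg h1
    · obtain ⟨p, rfl⟩ := FLI.sMap_surjective b z t
      obtain ⟨c, hc⟩ := hg.2 (FLI.sMap (vanι T hT M) z p)
      refine ⟨c, ?_⟩
      rw [show p = c • t₀ from vanι_injective hM T hT z (by
        show _ = ((DerSch.stalkFunctor X z).map (vanι T hT M)).hom (c • t₀)
        rw [map_smul]
        exact hc.symm.trans (congrArg (c • ·) ht₀.symm))]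
      exact (map_smul ((DerSch.stalkFunctor X z).map b).hom c t₀).symm
    · obtain ⟨p, rfl⟩ := FLI.sMap_surjective b z t
      refine (map_smul ((DerSch.stalkFunctor X z).map b).hom r p).symm.trans ((hcok z _).2 ?_)
      rw [range_muHom Z hZc M hZ hz]
      show ((DerSch.stalkFunctor X z).map (vanι T hT M)).hom (r • p) ∈ _
      rw [map_smul]
      exact Submodule.smul_mem_smul hr trivial
  refine ⟨_, K, a, b, cokernel.condition a,
    { exact' := { exact := hex }
      pt := hK
      coh := hPcoh
      tf := tfStalks_vanMod hM T hT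
      free := free_vanMod hM T hT hTp hzT }, ?_⟩
  have hkey : ∀ (x : X) (hx : x ∈ Z) (σ : Coh.structureModule X ⟶ M),
      x ∈ (PicF2.zeroScheme M σ).support ↔ FLI.sMap σ x (oneAt x) ∈
        LinearMap.range ((DerSch.stalkFunctor X x).map (vanι Z hZc M)).hom := fun x hx σ => by
    rw [mem_support_zeroScheme hM, range_muHom Z hZc M hZ hx]
  constructor
  · intro h σ hσ
    obtain ⟨s, rfl⟩ := exists_lift (vanι T hT M) σ fun x t => by
      obtain ⟨c, rfl⟩ := exists_smul_oneAt x t
      by_cases hx : x ∈ T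
      · have h1 := (hkey x (Finset.mem_of_mem_erase hx) σ).1
          (hσ x (Finset.mem_of_mem_erase hx) (Finset.ne_of_mem_erase hx))
        rw [range_muHom Z hZc M hZ (Finset.mem_of_mem_erase hx), ← range_muHom T hT M hTp hx] at h1
        obtain ⟨p, hp⟩ := h1
        refine ⟨c • p, ?_⟩
        show ((DerSch.stalkFunctor X x).map (vanι T hT M)).hom (c • p) =
          ((DerSch.stalkFunctor X x).map σ).hom (c • oneAt x)
        rw [map_smul, map_smul]
        exact congrArg (c • ·) hp
      · exact muHom_surjective T hT M hTp hx _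
    rw [hkey z hz, FLI.sMap_comp]
    refine (hcok z _).1 ?_
    rw [← FLI.sMap_comp, h s, FLI.sMap_zero]
  · intro h s
    refine hom_ext_oneAt fun x => ?_
    rw [FLI.sMap_comp, FLI.sMap_zero]
    by_cases hxz : x = z
    · subst hxz
      have h1 := h (s ≫ vanι T hT M) fun y hy hne => by
        rw [hkey y hy, range_muHom Z hZc M hZ hy, ← range_muHom T hT M hTp (Finset.mem_erase.2 ⟨hne, hy⟩),
          FLI.sMap_comp]
        exact ⟨_, rfl⟩
      rw [hkey x hz, FLI.sMap_comp] at h1
      exact (hcok x _).2 h1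
    · haveI := hK.subsingleton_stk hxz
      exact Subsingleton.elim (α := stk K x) _ _

end Step

section Rank

variable [IsIntegral X]

/-- A locally free module on an irreducible scheme has the rank of any chart containing the generic point. -/
theorem exists_rank {E : X.Modules} (hE : FlatMod.IsFinLocFree E) {n : ℕ}
    (hn : Module.finrank (X.presheaf.stalk (genericPoint X)) (stk E (genericPoint X)) = n) :
    FlatMod.IsFinLocFreeOfRank n E := fun x => by
  obtain ⟨U, m, e, hx, he⟩ := ProjFormLib.exists_frame hE x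
  have hη : genericPoint X ∈ U := ((genericPoint_spec X).mem_open_set_iff U.2).2 (by simpa using ⟨x, hx⟩)
  obtain rfl : m = n := by
    rw [← hn, Module.finrank_eq_card_basis (he.basis _ hη), Fintype.card_fin]
  obtain ⟨φ⟩ := CohCmpLib.exists_iso_freeMod_of_frame
    (CohCmpLib.isFrame_puSecLE U.ι he (V := (⊤ : (U : Scheme.{u}).Opens)) (fun z _ => z.2))
  exact ⟨U, hx, ⟨(Scheme.Modules.restrictFunctorIsoPullback U.ι).app E ≪≫ φ⟩⟩

/-- An extension of the vanishing module by an invertible one has rank two. -/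
theorem rank_two {S : ShortComplex X.Modules} (hS : S.ShortExact) (h₁ : PicF.IsInvertible S.X₁)
    (h₂ : FlatMod.IsFinLocFree S.X₂) (hpts : ∀ t ∈ T, IsClosed ({t} : Set X))
    (hη : genericPoint X ∉ T) (hM : PicF.IsInvertible M) (e : S.X₃ ≅ vanMod T hT M) :
    FlatMod.IsFinLocFreeOfRank 2 S.X₂ := by
  refine exists_rank h₂ ?_
  let η := genericPoint X
  haveI := hS.mono_f
  haveI := hS.epi_g
  obtain ⟨g₁, hg₁⟩ := exists_gen h₁ η
  obtain ⟨g₃, hg₃⟩ := exists_gen hM η
  obtain ⟨t, ht⟩ := muHom_surjective T hT M hpts hη g₃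
  obtain ⟨v, hv⟩ := FLI.sMap_surjective (S.g ≫ e.hom) η t
  let f : (X.presheaf.stalk η × X.presheaf.stalk η) →ₗ[X.presheaf.stalk η] stk S.X₂ η :=
    (LinearMap.toSpanSingleton _ _ (FLI.sMap S.f η g₁)).coprod (LinearMap.toSpanSingleton _ _ v)
  let q : stk S.X₂ η →ₗ[X.presheaf.stalk η] stk M η :=
    ((DerSch.stalkFunctor X η).map (S.g ≫ e.hom ≫ vanι T hT M)).hom
  have hqv : q v = g₃ := by
    show FLI.sMap (S.g ≫ e.hom ≫ vanι T hT M) η v = g₃
    rw [← Category.assoc, FLI.sMap_comp, hv, ht]
  have hqf : ∀ a, q (FLI.sMap S.f η a) = 0 := fun a => by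
    show FLI.sMap (S.g ≫ e.hom ≫ vanι T hT M) η (FLI.sMap S.f η a) = 0
    rw [← FLI.sMap_comp, S.zero_assoc, zero_comp, FLI.sMap_zero]
  have hf : ∀ a b, f (a, b) = ((DerSch.stalkFunctor X η).map S.f).hom (a • g₁) + b • v := fun a b => by
    rw [map_smul]; rfl
  have hbij : Function.Bijective f := by
    refine ⟨(injective_iff_map_eq_zero f).2 fun ⟨a, b⟩ h0 => ?_, fun w => ?_⟩
    · rw [hf] at h0
      have h1 := congrArg q h0
      rw [map_add, map_zero, show q (b • v) = b • q v from map_smul q b v, hqv] at h1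
      erw [hqf, zero_add] at h1
      have hb : b = 0 := hg₃.1 (h1.trans (zero_smul _ g₃).symm)
      subst hb
      rw [zero_smul, add_zero] at h0
      have ha : a = 0 := hg₁.1 ((FLI.sMap_injective S.f η (h0.trans (map_zero _).symm)).trans (zero_smul _ g₁).symm)
      subst ha
      rfl
    · obtain ⟨b, hb⟩ := hg₃.2 (q w)
      have h1 : FLI.sMap S.g η (w - b • v) = 0 := by
        haveI := mono_vanι hM T hT
        refine FLI.sMap_injective (e.hom ≫ vanι T hT M) η ?_
        rw [← FLI.sMap_comp]
        show q (w - b • v) = FLI.sMap (e.hom ≫ vanι T hT M) η 0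
        rw [map_sub, map_smul, hqv, map_zero, sub_eq_zero]
        exact hb.symm
      obtain ⟨u, hu⟩ := FLI.exists_of_exact S.f S.g S.zero hS.exact η (b := w - b • v) h1
      obtain ⟨a, rfl⟩ := hg₁.2 u
      refine ⟨(a, b), ?_⟩
      rw [hf]
      exact eq_sub_iff_add_eq.1 hu
  rw [← (LinearEquiv.ofBijective f hbij).finrank_eq, Module.finrank_prod, Module.finrank_self]

end Rank

end SurfExtLib

end
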