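import Groth.Agent.ExtShLib.Hcx
import Groth.Agent.ExtShLib.Universal
import Groth.Agent.ExtShLib.DivExt
import Groth.Agent.InjModLib.Crit
import Groth.Agent.GenusOneSSLib.Basic
import Groth.Agent.Dual3Lib.ExtHH
import Groth.Agent.CurvLib.Euler
import Mathlib.Algebra.Homology.DerivedCategory.Ext.Linear
import Mathlib.Algebra.Homology.DerivedCategory.Ext.ExactSequences

/-!
# The edge map `Ext¹(F, G) ≅ H⁰(Ext¹(F, G))` when `Hom(F, G)` vanishes
-/

set_option autoImplicit false
set_option linter.style.haveILetI false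
set_option linter.unusedSectionVars false
set_option backward.isDefEq.respectTransparency false
set_option backward.isDefEq.respectTransparency.types false
universe u

open CategoryTheory CategoryTheory.Limits AlgebraicGeometry Opposite
open CohCmpLib (homMod curryMod evMod curryMod_comp hom_homMod_ext)
open PnDualLib (homFun)
open ExtShLib (hcx cyc cycP cycP_ι cycSeq cycSeq_shortExact cycZero uL unc unc_curry unc_mapR unc_comp)
open KFlatLib (tens shTm)

noncomputable section

namespace SurfExtLib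

variable {X : Scheme.{u}}

local notation "𝒪" => Coh.structureModule X

/-- `F ⊗ O ≅ F`. -/
def uR (F : X.Modules) : tens F 𝒪 ⟶ F := (KFlatLib.tensSwap 𝒪 F).hom ≫ uL F

instance isIso_uR (F : X.Modules) : IsIso (uR F) := IsIso.comp_isIso

theorem tens_smulModΓ (F N : X.Modules) (c : Coh.Γtop X) :
    ((DCoh.tensorBi (X := X)).obj F).map (Formal.smulModΓ N c) = Formal.smulModΓ (tens F N) c := by
  refine KFlatLib.tens_hom_ext fun U m n => ?_
  refine (KFlatLib.tensorBi_map₂_shTm F (Formal.smulModΓ N c) m n).trans ?_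
  rw [KLin.smulModΓ_app_apply]
  have h := AmpleLib.shT_smul (M := F) (N := N) 1 (X.presheaf.map (homOfLE (le_top : U ≤ ⊤)).op c) m n
  rw [one_smul, one_mul] at h
  exact h.trans (KLin.smulModΓ_app_apply _ _ _ _).symm

variable {k : Type u} [Field k] [X.Over (Spec (CommRingCat.of k))]

/-- Currying against the structure sheaf. -/
def curryR (F P : X.Modules) : (F ⟶ P) →ₗ[k] (𝒪 ⟶ homMod F P) where
  toFun φ := curryMod (uR F ≫ φ)
  map_add' φ ψ := by
    refine hom_homMod_ext ?_
    rw [curryMod_comp, Preadditive.comp_add, Functor.map_add, Preadditive.add_comp, curryMod_comp,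
      curryMod_comp]
  map_smul' c φ := by
    refine hom_homMod_ext ?_
    rw [curryMod_comp, RingHom.id_apply, KLin.smul_def, KLin.smul_def, Functor.map_comp, Category.assoc,
      curryMod_comp, Formal.smulMod, Formal.smulMod, tens_smulModΓ, ← Category.assoc, ← Category.assoc]
    exact congrArg (fun t => t ≫ φ) (KLin.comp_smulModΓ (uR F) _)

theorem curryR_bijective (F P : X.Modules) : Function.Bijective (curryR (k := k) F P) := by
  constructor
  · intro φ ψ h
    have h1 : unc (curryMod (uR F ≫ φ)) = unc (curryMod (uR F ≫ ψ)) := congrArg unc h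
    rw [unc_curry, unc_curry] at h1
    exact (cancel_epi (uR F)).1 h1
  · intro g
    refine ⟨inv (uR F) ≫ unc g, ExtShLib.unc_injective ?_⟩
    show unc (curryMod (uR F ≫ inv (uR F) ≫ unc g)) = unc g
    rw [unc_curry, IsIso.hom_inv_id_assoc]

/-- `Hom(F, P) ≅ H⁰(ℋom(F, P))`. -/
def secEquiv (F P : X.Modules) : (F ⟶ P) ≃ₗ[k] Coh.HH X (homMod F P) 0 :=
  LinearEquiv.ofBijective (curryR (k := k) F P) (curryR_bijective F P) ≪≫ₗ
    GenusOneSSLib.homEquiv (k := k) (homMod F P)

theorem curryR_comp (F : X.Modules) {P Q : X.Modules} (φ : F ⟶ P) (g : P ⟶ Q) :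
    curryR (k := k) F Q (φ ≫ g) = curryR (k := k) F P φ ≫ HomCohLib.mapR F g := by
  refine ExtShLib.unc_injective ?_
  refine Eq.trans ?_ (unc_mapR (curryMod (uR F ≫ φ)) g).symm
  refine (unc_curry (uR F ≫ φ ≫ g)).trans ?_
  rw [unc_curry, Category.assoc]

theorem secEquiv_apply (F P : X.Modules) (φ : F ⟶ P) :
    secEquiv (k := k) F P φ = CurvLib.hMap (k := k) (curryR (k := k) F P φ) 0 (GenusOneSSLib.one X) := rfl

theorem secEquiv_comp (F : X.Modules) {P Q : X.Modules} (φ : F ⟶ P) (g : P ⟶ Q) :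
    secEquiv (k := k) F Q (φ ≫ g) = CurvLib.hMap (k := k) ((homFun F).map g) 0 (secEquiv (k := k) F P φ) := by
  rw [PnDualLib.homFun_map, secEquiv_apply, secEquiv_apply, curryR_comp]
  exact CurvLib.hMap_comp _ _ _ _

set_option maxHeartbeats 1000000 in
theorem subsingleton_HH_homMod (F J : X.Modules) [Injective J] (p : ℕ) :
    Subsingleton (Coh.HH X (homMod F J) (p + 1)) := by
  haveI : DCoh.HasSheafHom F := (HomCohLib.homAdj F).isLeftAdjoint
  let e := HomCohLib.sheafHomIso F J
  haveI : TopCat.Sheaf.IsFlasque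
      ((QCohLib.toAbF X).obj ((DCoh.sheafHom F).obj J) : TopCat.Sheaf AddCommGrpCat.{u} X.toTopCat) :=
    ⟨fun {U V} i => (AddCommGrpCat.epi_iff_surjective _).mpr
      (InjModLib.flasque_sheafHom F J (V := U.unop) (U := V.unop) i.unop.le)⟩
  haveI := @QCohLib.subsingleton_of_isFlasque _ p ((QCohLib.toAbF X).obj ((DCoh.sheafHom F).obj J)) inferInstance ⊤
  haveI : Subsingleton (Coh.HH X ((DCoh.sheafHom F).obj J) (p + 1)) :=
    (QCohLib.hEquiv ((QCohLib.toAbF X).obj ((DCoh.sheafHom F).obj J)) (p + 1)).toEquiv.subsingleton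
  exact SerreVanLib.subsingleton_HH_of_iso e.symm (p + 1) (by assumption)

variable [HasExt.{u} X.Modules]

open Abelian in
set_option maxHeartbeats 1600000 in
/-- `Ext¹(F, G) ≅ H⁰` of the first derived sheaf of homomorphisms, if `Hom(F, G)` vanishes. -/
theorem nonempty_extOne_equiv {F G : X.Modules} (I : InjectiveResolution G) (h0 : IsZero (homMod F G)) :
    Nonempty (Ext F G 1 ≃ₗ[k] Coh.HH X ((hcx F I).homology 1) 0) := by
  let K := hcx F I
  let Q := cyc I 1
  let p := cycP I 0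
  -- the sheaf side
  have hk : IsLimit (KernelFork.ofι ((homFun F).map (kernel.ι (I.cocomplex.d 1 2)))
      (by rw [← Functor.map_comp, kernel.condition, Functor.map_zero] :
        (homFun F).map (kernel.ι (I.cocomplex.d 1 2)) ≫ (homFun F).map (I.cocomplex.d 1 2) = 0)) :=
    KernelFork.mapIsLimit _ (kernelIsKernel (I.cocomplex.d 1 2)) (homFun F)
  let θ : homMod F Q ≅ K.cycles 1 :=
    IsLimit.conePointUniqueUpToIso hk (K.cyclesIsKernel 1 2 (by simp))
  have hθ : θ.hom ≫ K.iCycles 1 = (homFun F).map (kernel.ι (I.cocomplex.d 1 2)) :=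
    IsLimit.conePointUniqueUpToIso_hom_comp hk (K.cyclesIsKernel 1 2 (by simp)) WalkingParallelPair.zero
  have hp : (homFun F).map p ≫ θ.hom = K.toCycles 0 1 := by
    rw [← cancel_mono (K.iCycles 1), Category.assoc, hθ, HomologicalComplex.toCycles_i, ← Functor.map_comp,
      cycP_ι]
    rfl
  have hz : IsZero (K.homology 0) := h0.of_iso (asIso (ExtShLib.z0 I F)).symm
  haveI hd : Mono (K.d 0 1) :=
    (ShortComplex.exact_iff_mono _ (K.shape _ _ (by simp))).1
      ((K.exactAt_iff' 0 0 1 (by simp) (by simp)).1 ((K.exactAt_iff_isZero_homology 0).2 hz))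
  haveI : Mono (K.toCycles 0 1) := mono_of_mono_fac (K.toCycles_i 0 1)
  let T : ShortComplex X.Modules := ShortComplex.mk (K.toCycles 0 1) (K.homologyπ 1) (K.toCycles_comp_homologyπ 0 1)
  have hT : T.ShortExact :=
    { exact := ShortComplex.exact_of_g_is_cokernel _ (K.homologyIsCokernel 0 1 (by simp)) }
  let g2 : (F ⟶ Q) →ₗ[k] Coh.HH X (K.homology 1) 0 :=
    (CurvLib.hMap (k := k) T.g 0).comp
      ((CurvLib.hMap (k := k) θ.hom 0).comp (secEquiv (k := k) F Q).toLinearMap)
  have hg2s : Function.Surjective g2 := by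
    have h1 : Function.Surjective (CurvLib.hMap (k := k) T.g 0) := by
      haveI : Subsingleton (Coh.HH X T.X₁ (0 + 1)) := by
        haveI : Injective (I.cocomplex.X 0) := I.injective 0
        exact subsingleton_HH_homMod F (I.cocomplex.X 0) 0
      have h3 := CurvLib.exact₃ (k := k) hT 0
      rw [LinearMap.ker_eq_top.2 (LinearMap.ext fun x => Subsingleton.elim _ _)] at h3
      exact LinearMap.range_eq_top.1 h3
    exact h1.comp ((CurvLib.hIso (k := k) θ 0).surjective.comp (secEquiv (k := k) F Q).surjective)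
  have hg2k : LinearMap.ker g2 = LinearMap.range (Linear.rightComp k F p) := by
    ext φ
    constructor
    · intro hφ
      have h1 : CurvLib.hMap (k := k) θ.hom 0 (secEquiv (k := k) F Q φ) ∈ LinearMap.ker (CurvLib.hMap (k := k) T.g 0) :=
        LinearMap.mem_ker.2 hφ
      rw [← CurvLib.exact₂ (k := k) hT 0] at h1
      obtain ⟨y, hy⟩ := h1
      obtain ⟨ψ, rfl⟩ := (secEquiv (k := k) F (I.cocomplex.X 0)).surjective y
      refine ⟨ψ, (secEquiv (k := k) F Q).injective ((CurvLib.hIso (k := k) θ 0).injective ?_)⟩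
      show CurvLib.hMap (k := k) θ.hom 0 (secEquiv (k := k) F Q (ψ ≫ p)) =
        CurvLib.hMap (k := k) θ.hom 0 (secEquiv (k := k) F Q φ)
      rw [secEquiv_comp]
      refine (CurvLib.hMap_comp ((homFun F).map p) θ.hom 0 _).symm.trans ?_
      rw [hp]
      exact hy
    · rintro ⟨ψ, rfl⟩
      show CurvLib.hMap (k := k) T.g 0 (CurvLib.hMap (k := k) θ.hom 0 (secEquiv (k := k) F Q (ψ ≫ p))) = 0
      rw [secEquiv_comp]
      refine (congrArg (CurvLib.hMap (k := k) T.g 0)
        (CurvLib.hMap_comp ((homFun F).map p) θ.hom 0 _).symm).trans ?_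
      rw [hp]
      refine (CurvLib.hMap_comp T.f T.g 0 _).symm.trans ?_
      show CurvLib.hMap (k := k) (T.f ≫ T.g) 0 _ = 0
      rw [T.zero, CurveSDLib.hMap_zero]
  -- the Ext side
  have hS := cycSeq_shortExact I 0
  let e0 : cyc I 0 ≅ G := cycZero I
  let g1 : (F ⟶ Q) →ₗ[k] Ext F G 1 :=
    { toFun := fun φ => (Ext.mk₀ φ).comp (hS.extClass.comp (Ext.mk₀ e0.hom) (add_zero 1)) (zero_add 1)
      map_add' := fun φ ψ => by rw [Ext.mk₀_add, Ext.add_comp]
      map_smul' := fun c φ => by rw [Ext.mk₀_smul, Ext.smul_comp, RingHom.id_apply] }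
  have hg1s : Function.Surjective g1 := fun x => by
    haveI : Injective (cycSeq I 0).X₂ := inferInstance
    obtain ⟨y, hy⟩ := Ext.covariant_sequence_exact₁ F hS (x.comp (Ext.mk₀ e0.inv) (add_zero 1))
      (Ext.eq_zero_of_injective _) (n₀ := 0) rfl
    obtain ⟨φ, rfl⟩ := (Ext.mk₀_bijective F Q).2 y
    refine ⟨φ, ?_⟩
    show (Ext.mk₀ φ).comp (hS.extClass.comp (Ext.mk₀ e0.hom) (add_zero 1)) (zero_add 1) = x
    rw [← Ext.comp_assoc_of_third_deg_zero, hy, Ext.comp_assoc_of_third_deg_zero, Ext.mk₀_comp_mk₀, e0.inv_hom_id,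
      Ext.comp_mk₀_id]
  have hg1k : LinearMap.ker g1 = LinearMap.range (Linear.rightComp k F p) := by
    ext φ
    constructor
    · intro hφ
      have h1 := congrArg (fun z => Ext.comp z (Ext.mk₀ e0.inv) (add_zero 1)) (LinearMap.mem_ker.1 hφ)
      change ((Ext.mk₀ φ).comp (hS.extClass.comp (Ext.mk₀ e0.hom) (add_zero 1)) (zero_add 1)).comp _ (add_zero 1) =
        (0 : Ext F G 1).comp _ (add_zero 1) at h1
      rw [Ext.zero_comp, ← Ext.comp_assoc_of_third_deg_zero, Ext.comp_assoc_of_third_deg_zero,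
        Ext.mk₀_comp_mk₀, e0.hom_inv_id, Ext.comp_mk₀_id] at h1
      obtain ⟨y, hy⟩ := Ext.covariant_sequence_exact₃ F hS (Ext.mk₀ φ) (n₁ := 1) rfl h1
      obtain ⟨ψ, rfl⟩ := (Ext.mk₀_bijective F (I.cocomplex.X 0)).2 y
      exact ⟨ψ, (Ext.mk₀_bijective F Q).1 ((Ext.mk₀_comp_mk₀ ψ p).symm.trans hy)⟩
    · rintro ⟨ψ, rfl⟩
      show (Ext.mk₀ (ψ ≫ (cycSeq I 0).g)).comp (hS.extClass.comp (Ext.mk₀ e0.hom) (add_zero 1)) (zero_add 1) = 0
      rw [← Ext.mk₀_comp_mk₀, ← Ext.comp_assoc_of_third_deg_zero, Ext.comp_assoc_of_second_deg_zero,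
        hS.comp_extClass, Ext.comp_zero, Ext.zero_comp]
  exact ⟨(g1.quotKerEquivOfSurjective hg1s).symm ≪≫ₗ Submodule.quotEquivOfEq _ _ (hg1k.trans hg2k.symm) ≪≫ₗ
    g2.quotKerEquivOfSurjective hg2s⟩

end SurfExtLib
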