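import Groth.Agent.SurfExtLib.Pure

/-!
# Stalks of sheaves of homomorphisms out of coherent sheaves on projective schemes
-/

set_option autoImplicit false
set_option linter.style.haveILetI false
set_option linter.unusedSectionVars false
set_option backward.isDefEq.respectTransparency false
set_option backward.isDefEq.respectTransparency.types false
universe u

open CategoryTheory CategoryTheory.Limits AlgebraicGeometry TopologicalSpace
open CohCmpLib (stk homMod evS evMod HomEv homEv_evMod)
open PnDualLib (preMap)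

noncomputable section

namespace SurfExtLib

variable {X : Scheme.{u}} [IsLocallyNoetherian X] {k : Type u} [Field k] {r : ℕ}

theorem sMap_evS_preMap {A B : X.Modules} (f : A ⟶ B) (F : X.Modules) (y : X) (b : stk (homMod B F) y) (a : stk A y) :
    evS (evMod A F) y (FLI.sMap (preMap f F) y b) a = evS (evMod B F) y b (FLI.sMap f y a) :=
  LinearMap.congr_fun (PnDualLib.evS_preMap f F y b) a

/-- On a projective scheme the stalks of `ℋom(m, F)` are the homomorphisms of stalks, for `m` coherent. -/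
theorem homEv_evMod_of_isCoh (i : X ⟶ CohB1.ProjSpace r k) [IsClosedImmersion i] {m : X.Modules}
    (hm : Coh.IsCoh m) (F : X.Modules) : HomEv (evMod m F) := fun y => by
  obtain ⟨E₀, p₀, hE₀, hp₀⟩ := exists_finLocFree_epi i m hm
  have hK : Coh.IsCoh (kernel p₀) := QCohLib.isCoh_kernel p₀ (LocSuppLib.isCoh_of_isFinLocFree hE₀) hm.1
  obtain ⟨E₁, p₁, hE₁, hp₁⟩ := exists_finLocFree_epi i (kernel p₀) hK
  let T : ShortComplex X.Modules :=
    ShortComplex.mk (p₁ ≫ kernel.ι p₀) p₀ (by rw [Category.assoc, kernel.condition, comp_zero])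
  have hTe : T.Exact := by
    let φ : T ⟶ ShortComplex.mk (kernel.ι p₀) p₀ (kernel.condition p₀) :=
      ShortComplex.homMk p₁ (𝟙 _) (𝟙 _) (Category.comp_id _).symm (by simp [T])
    haveI : Epi φ.τ₁ := hp₁
    haveI : IsIso φ.τ₂ := inferInstanceAs (IsIso (𝟙 E₀))
    haveI : Mono φ.τ₃ := inferInstanceAs (Mono (𝟙 m))
    exact (ShortComplex.exact_iff_of_epi_of_isIso_of_mono φ).2 (ShortComplex.exact_kernel p₀)
  haveI : Epi T.g := hp₀
  have hex := ExtShLib.preSeq_exact hTe F
  haveI : Mono (preMap T.g F) := ExtShLib.mono_preMap T.g F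
  constructor
  · intro a b hab
    refine FLI.sMap_injective (preMap T.g F) y ((homEv_evMod hE₀ y).1 (LinearMap.ext fun e => ?_))
    rw [sMap_evS_preMap, sMap_evS_preMap, hab]
  · intro φ
    obtain ⟨a, ha⟩ := (homEv_evMod (P := F) hE₀ y).2 (φ ∘ₗ ((DerSch.stalkFunctor X y).map p₀).hom)
    obtain ⟨b, hb⟩ := FLI.exists_of_exact _ _ _ hex y (b := a) (by
      refine (homEv_evMod (P := F) hE₁ y).1 (LinearMap.ext fun e => ?_)
      show evS (evMod E₁ F) y (FLI.sMap (preMap T.f F) y a) e = evS (evMod E₁ F) y 0 e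
      rw [sMap_evS_preMap, ha, map_zero, LinearMap.zero_apply, LinearMap.comp_apply]
      change φ (FLI.sMap p₀ y (FLI.sMap T.f y e)) = 0
      rw [← FLI.sMap_comp]
      show φ (FLI.sMap (T.f ≫ T.g) y e) = 0
      rw [T.zero, FLI.sMap_zero, map_zero])
    refine ⟨b, LinearMap.ext fun t => ?_⟩
    obtain ⟨e, rfl⟩ := FLI.sMap_surjective p₀ y t
    have h1 := sMap_evS_preMap T.g F y b e
    erw [hb, ha] at h1
    exact h1.symm

/-- Surjectivity of restriction at a stalk is the extension property of homomorphisms. -/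
theorem surjective_preMap_stalk_iff (i : X ⟶ CohB1.ProjSpace r k) [IsClosedImmersion i] {m E : X.Modules}
    (hm : Coh.IsCoh m) (hE : FlatMod.IsFinLocFree E) (f : m ⟶ E) (F : X.Modules) (y : X) :
    Function.Surjective (FLI.sMap (preMap f F) y) ↔
      ∀ φ : stk m y →ₗ[X.presheaf.stalk y] stk F y,
        ∃ ψ : stk E y →ₗ[X.presheaf.stalk y] stk F y, ψ ∘ₗ ((DerSch.stalkFunctor X y).map f).hom = φ := by
  constructor
  · intro h φ
    obtain ⟨b, hb⟩ := (homEv_evMod_of_isCoh i hm F y).2 φ
    obtain ⟨a, rfl⟩ := h b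
    exact ⟨evS (evMod E F) y a, (PnDualLib.evS_preMap f F y a).symm.trans hb⟩
  · intro h b
    obtain ⟨ψ, hψ⟩ := h (evS (evMod m F) y b)
    obtain ⟨a, ha⟩ := (homEv_evMod (P := F) hE y).2 ψ
    refine ⟨a, (homEv_evMod_of_isCoh i hm F y).1 ?_⟩
    refine (PnDualLib.evS_preMap f F y a).trans ?_
    rw [ha]; exact hψ

end SurfExtLib
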