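import Groth.Agent.SurfExtLib.BasePtFree
import Groth.Agent.CIGenLib.SmoothPts
import Mathlib.RingTheory.DiscreteValuationRing.Basic
import Mathlib.LinearAlgebra.FreeModule.Finite.Basic

/-!
# Duals of sheaves of rank one on a curve in a surface
-/

set_option autoImplicit false
set_option linter.style.haveILetI false
set_option linter.unusedSectionVars false
set_option backward.isDefEq.respectTransparency false
set_option backward.isDefEq.respectTransparency.types false
set_option maxHeartbeats 1600000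
universe u

open CategoryTheory CategoryTheory.Limits AlgebraicGeometry TopologicalSpace Opposite
open CohCmpLib (stk homMod evS evMod)
open PnDualLib (preMap homFun)
open ExtShLib (hcx preCx seqCx seqCx_shortExact)

noncomputable section

namespace SurfExtLib

theorem nonempty_rightDerived_hcx {S : Scheme.{u}} [HasInjectiveResolutions S.Modules] (F : S.Modules)
    [DCoh.HasSheafHom F] [(DCoh.sheafHom F).Additive] {G : S.Modules} (I : InjectiveResolution G) (q : ℕ) :
    Nonempty (((DCoh.sheafHom F).rightDerived q).obj G ≅ (hcx F I).homology q) := by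
  let σ : DCoh.sheafHom F ≅ homFun F := (DCoh.sheafHomAdj _).rightAdjointUniq (HomCohLib.homAdj _)
  exact ⟨I.isoRightDerivedObj (DCoh.sheafHom F) q ≪≫
    (HomologicalComplex.homologyFunctor S.Modules (ComplexShape.up ℕ) q).mapIso
      (HomologicalComplex.Hom.isoOfComponents (fun i => σ.app _) fun i l _ => (σ.hom.naturality _).symm)⟩

variable {S C : Scheme.{u}} (j : C ⟶ S) [IsClosedImmersion j] [IsIntegral C] [IsLocallyNoetherian S]

include j in
theorem isClosed_singleton_of_ne (hC : topologicalKrullDim C ≤ 1) {c : C} (hc : c ≠ genericPoint C) :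
    IsClosed ({c} : Set C) := by
  haveI : IsLocallyNoetherian C := LocallyOfFiniteType.isLocallyNoetherian j
  refine closure_eq_iff_isClosed.1 (Set.Subset.antisymm (fun c' hc' => ?_) subset_closure)
  by_contra hne
  have h1 := FibDimLib.ringKrullDim_stalk_lt (genericPoint_specializes c) (Ne.symm hc)
  have h2 := FibDimLib.ringKrullDim_stalk_lt (specializes_iff_mem_closure.2 hc') (Ne.symm hne)
  obtain ⟨a, ha⟩ := EquidimLib.exists_stalk_dim_eq_nat (genericPoint C)
  obtain ⟨b, hb⟩ := EquidimLib.exists_stalk_dim_eq_nat c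
  obtain ⟨d, hd⟩ := EquidimLib.exists_stalk_dim_eq_nat c'
  have h3 := (DimIneqLib.stalk_dim_le_dim c').trans hC
  rw [ha, hb] at h1
  rw [hb, hd] at h2
  rw [hd] at h3
  have h1' : a < b := by exact_mod_cast h1
  have h2' : b < d := by exact_mod_cast h2
  have h3' : d ≤ 1 := by exact_mod_cast h3
  omega

theorem isClosed_image_ne (hC : topologicalKrullDim C ≤ 1) {y : S} (hy : y ∈ Set.range ⇑j)
    (hne : y ≠ j (genericPoint C)) : IsClosed ({y} : Set S) := by
  obtain ⟨c, rfl⟩ := hy
  have h := j.isClosedEmbedding.isClosedMap _ (isClosed_singleton_of_ne j hC (c := c) fun h => hne (h ▸ rfl))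
  rwa [Set.image_singleton] at h

theorem isDVR_stalk_generic [IsIntegral S] (hdim : topologicalKrullDim S ≤ 2)
    (hreg : ∀ x : S, IsRegularLocalRing (S.presheaf.stalk x)) (hC : topologicalKrullDim C = 1)
    (hη : genericPoint S ∉ Set.range ⇑j) : IsDiscreteValuationRing (S.presheaf.stalk (j (genericPoint C))) := by
  haveI := hreg (j (genericPoint C))
  refine WeilExtLib.isDiscreteValuationRing_of_regular _ ?_ fun hf => ?_
  · by_contra hd
    obtain ⟨d, hd'⟩ := EquidimLib.exists_stalk_dim_eq_nat (j (genericPoint C))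
    have h2 := (DimIneqLib.stalk_dim_le_dim (j (genericPoint C))).trans hdim
    rw [hd'] at h2 hd
    have : d = 2 := le_antisymm (by exact_mod_cast h2) (by
      by_contra h
      exact hd (by exact_mod_cast (show d ≤ 1 by omega)))
    subst this
    have hsub : Subsingleton C := ⟨fun a b => by
      have key : ∀ c : C, c = genericPoint C := fun c => j.isClosedEmbedding.injective
        (eq_of_specializes hdim (by exact_mod_cast hd') ((genericPoint_specializes c).map j.base.hom.continuous)).symm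
      rw [key a, key b]⟩
    have h0 := topologicalKrullDim_zero_of_discreteTopology C
    rw [hC] at h0
    exact absurd h0 (by decide)
  · obtain ⟨a, ha0, hac⟩ := exists_stalkMap_eq_zero j hη (genericPoint C)
    obtain ⟨b, hb⟩ := hf.mul_inv_cancel ha0
    have h1 := congrArg (j.stalkMap (genericPoint C)) hb
    rw [map_mul, hac, zero_mul, map_one] at h1
    exact zero_ne_one h1

/-- At the generic point of the curve the dual of a rank one sheaf is generated by any nonzero element. -/
theorem exists_smul_eq_generic {K E F Q ω : S.Modules} {f : K ⟶ E} {g₀ : E ⟶ F} {w₀ : f ≫ g₀ = 0}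
    (hT : (ShortComplex.mk f g₀ w₀).ShortExact) {g : homMod K ω ⟶ Q} {w : preMap f ω ≫ g = 0}
    (hT' : (ShortComplex.mk (preMap f ω) g w).ShortExact) (hE : FlatMod.IsFinLocFree E)
    (hK : FlatMod.IsFinLocFree K) (hωi : PicF.IsInvertible ω) (x : S)
    [IsDomain (S.presheaf.stalk x)] [IsDiscreteValuationRing (S.presheaf.stalk x)]
    (hm : ∀ a ∈ IsLocalRing.maximalIdeal (S.presheaf.stalk x), ∀ t : stk F x, a • t = 0)
    {t₁ : stk F x} (hgen : ∀ t : stk F x, ∃ c : S.presheaf.stalk x, c • t₁ = t)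
    {q : stk Q x} (hq : q ≠ 0) (r : stk Q x) : ∃ c : S.presheaf.stalk x, c • q = r := by
  haveI : Mono f := hT.mono_f
  haveI : Epi g := hT'.epi_g
  haveI : Epi g₀ := hT.epi_g
  obtain ⟨φ', rfl⟩ := FLI.sMap_surjective g x q
  obtain ⟨ψ', rfl⟩ := FLI.sMap_surjective g x r
  obtain ⟨π, hπ⟩ := IsDiscreteValuationRing.exists_irreducible (S.presheaf.stalk x)
  obtain ⟨eω0⟩ := CurvLib.nonempty_stalk_pi_of_locFree (CurvLib.locFree_of_isInvertible hωi) x
  let eω : stk ω x ≃ₗ[S.presheaf.stalk x] S.presheaf.stalk x := eω0 ≪≫ₗ LinearEquiv.funUnique (Fin 1) _ _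
  let fx := ((DerSch.stalkFunctor S x).map f).hom
  obtain ⟨e₁, he₁⟩ := FLI.sMap_surjective g₀ x t₁
  have hgE : ∀ e : stk E x, ∃ (c : S.presheaf.stalk x) (b : stk K x), e = c • e₁ + fx b := fun e => by
    obtain ⟨c, hc⟩ := hgen (FLI.sMap g₀ x e)
    obtain ⟨b, hb⟩ := FLI.exists_of_exact f g₀ w₀ hT.exact x (b := e - c • e₁) (by
      show ((DerSch.stalkFunctor S x).map g₀).hom (e - c • e₁) = 0
      rw [map_sub, map_smul, sub_eq_zero]
      exact hc.symm.trans (congrArg (c • ·) he₁.symm))
    exact ⟨c, b, eq_add_of_sub_eq' hb.symm⟩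
  have hmE : ∀ e : stk E x, π • e ∈ LinearMap.range fx := fun e => by
    obtain ⟨b, hb⟩ := FLI.exists_of_exact f g₀ w₀ hT.exact x (b := π • e) (by
      show ((DerSch.stalkFunctor S x).map g₀).hom (π • e) = 0
      rw [map_smul]
      exact hm π ((IsLocalRing.mem_maximalIdeal _).2 hπ.not_isUnit) _)
    exact ⟨b, hb⟩
  let toR : stk (homMod K ω) x → (stk K x →ₗ[S.presheaf.stalk x] S.presheaf.stalk x) :=
    fun χ => eω.toLinearMap ∘ₗ evS (evMod K ω) x χ
  have himg : ∀ γ : stk E x →ₗ[S.presheaf.stalk x] S.presheaf.stalk x, ∀ χ : stk (homMod K ω) x,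
      toR χ = γ ∘ₗ fx → ∃ γ', FLI.sMap (preMap f ω) x γ' = χ := fun γ χ hχ => by
    obtain ⟨γ', hγ'⟩ := (CohCmpLib.homEv_evMod (P := ω) hE x).2 (eω.symm.toLinearMap ∘ₗ γ)
    refine ⟨γ', (CohCmpLib.homEv_evMod (P := ω) hK x).1 ?_⟩
    refine (PnDualLib.evS_preMap f ω x γ').trans ?_
    rw [hγ']
    refine LinearMap.ext fun b => eω.injective ?_
    exact (eω.apply_symm_apply _).trans (LinearMap.congr_fun hχ b).symm
  have hzero : ∀ γ', FLI.sMap g x (FLI.sMap (preMap f ω) x γ') = 0 := fun γ' => by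
    rw [← FLI.sMap_comp, w, FLI.sMap_zero]
  obtain ⟨c, γ, hγ⟩ := exists_smul_sub_comp hπ.ne_zero hπ.maximalIdeal_eq fx (FLI.sMap_injective f x) e₁ hgE hmE
    (toR φ') (toR ψ') fun γ hγ => hq (by
      obtain ⟨γ', rfl⟩ := himg γ φ' hγ.symm
      exact hzero γ')
  obtain ⟨γ', hγ'⟩ := himg γ (ψ' - c • φ') (by
    show eω.toLinearMap ∘ₗ evS (evMod K ω) x (ψ' - c • φ') = _
    rw [map_sub, map_smul, LinearMap.comp_sub, LinearMap.comp_smul]
    exact sub_eq_iff_eq_add'.2 hγ)
  refine ⟨c, ?_⟩
  have h1 := hzero γ'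
  rw [hγ'] at h1
  change ((DerSch.stalkFunctor S x).map g).hom (ψ' - c • φ') = 0 at h1
  rw [map_sub, map_smul, sub_eq_zero] at h1
  exact h1.symm

end SurfExtLib
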