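import Groth.Prelude.Def_TorSh
import Groth.Agent.MiscFlat6.FreeStalks
import Groth.Agent.DepthLib.AB
import Groth.Agent.DepthLib.RegAB
import Groth.Agent.ProjClosedImmLib.Stalk
import Groth.Agent.VBResLib.Basic
import Groth.Agent.VBResLib.RegPush
import Groth.Agent.DimIneqLib.Dim
import Groth.Agent.EquidimLib.DimBetween
import Groth.Agent.FibDimLib.ClosureDim
import Groth.Agent.InvLib.Depth
import Groth.Agent.S1535
import Groth.Agent.LocSuppLib.LocFree
import Mathlib.CategoryTheory.Abelian.Projective.Dimension

/-!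
# Torsion-free sheaves on a curve in a regular surface
-/

set_option autoImplicit false
set_option linter.style.haveILetI false
set_option backward.isDefEq.respectTransparency false
set_option backward.isDefEq.respectTransparency.types false
universe u

open CategoryTheory CategoryTheory.Limits AlgebraicGeometry TopologicalSpace RingTheory.Sequence

namespace SurfExtLib

/-- On a locally Noetherian scheme of dimension two, points with two dimensional local rings are closed. -/
theorem eq_of_specializes {S : Scheme.{u}} [IsLocallyNoetherian S] (hdim : topologicalKrullDim S ≤ 2)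
    {x x' : S} (hx : ringKrullDim (S.presheaf.stalk x) = 2) (h : x ⤳ x') : x = x' := by
  by_contra hne
  have h1 := FibDimLib.ringKrullDim_stalk_lt h hne
  rw [hx] at h1
  exact not_lt.2 ((DimIneqLib.stalk_dim_le_dim x').trans hdim) h1

/-- A torsion-free sheaf on an integral curve in a regular surface has homological dimension at most one. -/
theorem pdlt_two_push {S C : Scheme.{u}} [IsLocallyNoetherian S] (hdim : topologicalKrullDim S ≤ 2)
    (j : C ⟶ S) [IsClosedImmersion j] [IsIntegral C] (hC : topologicalKrullDim C ≠ 0)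
    (M : C.Modules) (hM : Coh.IsCoh M) (hMtf : TorSh.IsTorsionFree M) (x : S)
    [IsRegularLocalRing (S.presheaf.stalk x)] :
    CommAlgDim.PDLT (S.presheaf.stalk x)
      ((DerSch.stalkFunctor S x).obj ((Scheme.Modules.pushforward j).obj M)) 2 := by
  haveI : IsLocallyNoetherian C := LocallyOfFiniteType.isLocallyNoetherian j
  have hPM : Coh.IsCoh ((Scheme.Modules.pushforward j).obj M) :=
    VBResLib.isCoh_push_of_isClosedImmersion j hM
  haveI : Coh.IsQCoh ((Scheme.Modules.pushforward j).obj M) := hPM.1
  haveI : Module.Finite (S.presheaf.stalk x)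
      ((DerSch.stalkFunctor S x).obj ((Scheme.Modules.pushforward j).obj M)) :=
    DepthLib.finite_stalk _ hPM.2 x
  obtain ⟨d, hd⟩ := EquidimLib.exists_stalk_dim_eq_nat x
  have hd2 : d ≤ 2 := by
    have h := (DimIneqLib.stalk_dim_le_dim x).trans hdim
    rw [hd] at h
    exact_mod_cast h
  rcases le_or_gt d 1 with h1 | h1
  · exact CommAlgDim.PDLT.mono (by omega) ((DepthLib.le_depth_iff_pdlt _ _ hd (Nat.zero_le d)).1 zero_le')
  obtain rfl : d = 2 := by omega
  suffices h : ((1 : ℕ) : ℕ∞) ≤ LocCoh.depth (S.presheaf.stalk x)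
      ((DerSch.stalkFunctor S x).obj ((Scheme.Modules.pushforward j).obj M)) from
    (DepthLib.le_depth_iff_pdlt _ _ hd (by omega)).1 h
  by_cases hx : x ∈ Set.range ⇑j
  swap
  · haveI : Subsingleton ((DerSch.stalkFunctor S x).obj ((Scheme.Modules.pushforward j).obj M)) :=
      ProjClosedImmLib.subsingleton_stalk j M hx
    exact InvLib.HasSeq.le_depth (InvLib.hasSeq_of_subsingleton 1)
  obtain ⟨c, rfl⟩ := hx
  have hc : IsClosed ({c} : Set C) := by
    refine closure_eq_iff_isClosed.1 (Set.Subset.antisymm (fun c' hc' => ?_) subset_closure)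
    have := eq_of_specializes hdim (by exact_mod_cast hd) ((specializes_iff_mem_closure.2 hc').map j.base.hom.continuous)
    exact (j.isClosedEmbedding.injective this).symm
  have hgen : genericPoint C ≠ c := fun he => hC (by
    have hu : ({c} : Set C) = Set.univ := by
      rw [← hc.closure_eq, ← he]
      exact genericPoint_closure _
    haveI : Subsingleton C := Set.subsingleton_univ_iff.1 (hu ▸ Set.subsingleton_singleton)
    haveI : Nonempty (IrreducibleCloseds C) := ⟨⟨Set.univ, IrreducibleSpace.isIrreducible_univ C, isClosed_univ⟩⟩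
    exact le_antisymm (topologicalKrullDim_zero_of_discreteTopology C) Order.krullDim_nonneg)
  have hlt := FibDimLib.ringKrullDim_stalk_lt (genericPoint_specializes c) hgen
  have hnf : ¬ IsField (C.presheaf.stalk c) := fun hf => by
    rw [ringKrullDim_eq_zero_of_isField hf] at hlt
    exact not_lt.2 (ringKrullDim_nonneg_of_nontrivial) hlt
  obtain ⟨b, hb0, hbu⟩ : ∃ b : C.presheaf.stalk c, b ≠ 0 ∧ ¬ IsUnit b := by
    by_contra h
    refine hnf ⟨⟨0, 1, zero_ne_one⟩, mul_comm, fun {b} hb0 => ?_⟩
    obtain ⟨u, rfl⟩ := not_not.1 fun hbu => h ⟨b, hb0, hbu⟩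
    exact ⟨↑u⁻¹, u.mul_inv⟩
  obtain ⟨a, rfl⟩ := j.stalkMap_surjective c b
  refine InvLib.HasSeq.le_depth ⟨[a], rfl, fun r hr => ?_, ?_⟩
  · rw [List.mem_singleton.1 hr, IsLocalRing.mem_maximalIdeal]
    exact fun h => hbu (h.map _)
  · rw [isWeaklyRegular_cons_iff]
    refine ⟨?_, IsWeaklyRegular.nil _ _⟩
    haveI := hMtf c
    intro y z hyz
    refine (ProjClosedImmLib.pS_bijective j c M).injective ?_
    have h2 := congrArg (ProjClosedImmLib.pS j c M) hyz
    erw [ProjClosedImmLib.pS_smul, ProjClosedImmLib.pS_smul] at h2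
    exact (Module.IsTorsionFree.isSMulRegular (M := M.presheaf.stalk c)
      (isRegular_of_ne_zero hb0)) h2

/-- The kernel of a map from a finite locally free sheaf onto such a sheaf is finite locally free. -/
theorem isFinLocFree_kernel {S C : Scheme.{u}} [IsLocallyNoetherian S] (hdim : topologicalKrullDim S ≤ 2)
    (hreg : ∀ x : S, IsRegularLocalRing (S.presheaf.stalk x))
    (j : C ⟶ S) [IsClosedImmersion j] [IsIntegral C] (hC : topologicalKrullDim C ≠ 0)
    (M : C.Modules) (hM : Coh.IsCoh M) (hMtf : TorSh.IsTorsionFree M)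
    (F : S.Modules) (hF : FlatMod.IsFinLocFree F)
    (f : F ⟶ (Scheme.Modules.pushforward j).obj M) [Epi f] : FlatMod.IsFinLocFree (kernel f) := by
  have hK : Coh.IsCoh (kernel f) := QCohLib.isCoh_kernel f (LocSuppLib.isCoh_of_isFinLocFree hF)
    (VBResLib.isCoh_push_of_isClosedImmersion j hM).1
  refine Groth.Agent.S1688.isFinLocFree_of_isFP_of_flat (QCohLib.isFP_of_isCoh _ hK) fun x => ?_
  haveI := hreg x
  let T : ShortComplex S.Modules := ShortComplex.mk (kernel.ι f) f (kernel.condition f)
  have hT : T.ShortExact :=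
    { exact := ShortComplex.exact_of_f_is_kernel _ (kernelIsKernel f) }
  have hTx := VBResLib.shortExact_stalk hT x
  haveI : CategoryTheory.HasProjectiveDimensionLT (T.map (DevissLib.St x)).X₃ 2 :=
    pdlt_two_push hdim j hC M hM hMtf x
  haveI : CategoryTheory.HasProjectiveDimensionLT (T.map (DevissLib.St x)).X₂ 1 := by
    haveI := MiscFlat6.free_stalk_of_isFinLocFree hF x
    exact CommAlgDim.pdlt_one_iff.2 (Module.Projective.of_free (R := S.presheaf.stalk x) (P := F.presheaf.stalk x))
  have h1 : CategoryTheory.HasProjectiveDimensionLT (T.map (DevissLib.St x)).X₁ 1 :=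
    hTx.hasProjectiveDimensionLT_X₁ 1 inferInstance inferInstance
  haveI : Module.Projective (S.presheaf.stalk x) ((kernel f).presheaf.stalk x) := CommAlgDim.pdlt_one_iff.1 h1
  exact Module.Flat.of_projective

end SurfExtLib
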