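import Groth.Agent.SurfExtLib.LocalMod
import Groth.Agent.CommAlgDim.Depth
import Groth.Agent.CommAlgDim.Regular
import Mathlib.RingTheory.Ideal.AssociatedPrime.Finiteness

/-!
# Extending homomorphisms from the maximal ideal of a two dimensional regular local ring
-/

set_option autoImplicit false
set_option linter.style.haveILetI false
universe u

open RingTheory.Sequence IsLocalRing
open scoped Pointwise

namespace SurfExtLib

variable {R : Type u} [CommRing R] [IsRegularLocalRing R]

/-- Every map from the maximal ideal to a finite free module extends to the ring. -/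
theorem extends_of_free (hd : ringKrullDim R = 2) {F : Type u} [AddCommGroup F] [Module R F] [Module.Finite R F]
    [Module.Free R F] {M' : Type u} [AddCommGroup M'] [Module R M'] (f : M' →ₗ[R] R) (hf : Function.Injective f)
    (hr : LinearMap.range f = maximalIdeal R) (φ : M' →ₗ[R] F) : ∃ ψ : R →ₗ[R] F, ψ ∘ₗ f = φ := by
  haveI := CommAlgDim.isDomain_of_isRegularLocalRing R
  have hp : CommAlgDim.PDLT R F 1 := CommAlgDim.pdlt_one_iff.2 Module.Projective.of_free
  have h := (DepthLib.le_depth_iff_pdlt R F (d := 2) (by exact_mod_cast hd) (n := 2) le_rfl).2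
    (CommAlgDim.PDLT.mono (by omega) hp)
  rcases subsingleton_or_nontrivial F with hF | hF
  · exact ⟨0, Subsingleton.elim _ _⟩
  obtain ⟨rs, hl, hm, hrs⟩ := InvLib.hasSeq_of_le_depth h
  obtain ⟨a, b, rfl⟩ := List.length_eq_two.1 hl
  rw [isWeaklyRegular_cons_iff, isWeaklyRegular_cons_iff] at hrs
  obtain ⟨ha, hb, -⟩ := hrs
  obtain ⟨x, hx⟩ := (hr.ge (hm a (by simp)) : a ∈ LinearMap.range f)
  obtain ⟨y, hy⟩ := (hr.ge (hm b (by simp)) : b ∈ LinearMap.range f)
  have hsym : a • φ y = b • φ x := by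
    rw [← map_smul, ← map_smul]
    exact congrArg φ (hf (by rw [map_smul, map_smul, hx, hy, smul_eq_mul, smul_eq_mul, mul_comm]))
  have hmem : φ x ∈ a • (⊤ : Submodule R F) := by
    rw [← Submodule.Quotient.mk_eq_zero]
    refine hb ?_
    show b • (Submodule.Quotient.mk (φ x) : QuotSMulTop a F) = b • 0
    rw [smul_zero, ← Submodule.Quotient.mk_smul, Submodule.Quotient.mk_eq_zero, ← hsym]
    exact Submodule.smul_mem_pointwise_smul _ a _ trivial
  obtain ⟨w, -, hw⟩ := Submodule.mem_smul_pointwise_iff_exists _ _ _ |>.1 hmem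
  refine ⟨LinearMap.toSpanSingleton R F w, LinearMap.ext fun z => ha ?_⟩
  show a • (f z • w) = a • φ z
  rw [smul_comm a (f z) w, hw, ← map_smul, ← map_smul]
  exact congrArg φ (hf (by rw [map_smul, map_smul, hx, smul_eq_mul, smul_eq_mul, mul_comm]))

/-- A finite torsion free module to which every map from the maximal ideal extends is free. -/
theorem free_of_extends (hd : ringKrullDim R = 2) {F : Type u} [AddCommGroup F] [Module R F] [Module.Finite R F]
    (htf : ∀ a : R, a ≠ 0 → IsSMulRegular F a) {M' : Type u} [AddCommGroup M'] [Module R M'] (f : M' →ₗ[R] R)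
    (hr : LinearMap.range f = maximalIdeal R)
    (hext : ∀ φ : M' →ₗ[R] F, ∃ ψ : R →ₗ[R] F, ψ ∘ₗ f = φ) : Module.Free R F := by
  haveI := CommAlgDim.isDomain_of_isRegularLocalRing R
  obtain ⟨a, ha, ha0⟩ : ∃ a ∈ maximalIdeal R, a ≠ (0 : R) := by
    refine Submodule.exists_mem_ne_zero_of_ne_bot fun hb => ?_
    rw [← IsLocalRing.isField_iff_maximalIdeal_eq] at hb
    rw [ringKrullDim_eq_zero_of_isField hb] at hd
    exact absurd hd (by decide)
  have key : ∀ w : F, (∀ r ∈ maximalIdeal R, r • w ∈ a • (⊤ : Submodule R F)) → w ∈ a • (⊤ : Submodule R F) := by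
    intro w hw
    have hdiv : ∀ x : M', ∃ u : F, a • u = f x • w := fun x => by
      obtain ⟨u, -, hu⟩ := Submodule.mem_smul_pointwise_iff_exists _ _ _ |>.1
        (hw (f x) (hr.le ⟨x, rfl⟩))
      exact ⟨u, hu⟩
    choose u hu using hdiv
    let φ : M' →ₗ[R] F :=
      { toFun := u
        map_add' := fun x y => htf a ha0 (by
          show a • u (x + y) = a • (u x + u y)
          rw [smul_add, hu, hu, hu, map_add, add_smul])
        map_smul' := fun c x => htf a ha0 (by
          show a • u (c • x) = a • (c • u x)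
          rw [hu, smul_comm a c, hu, map_smul, smul_eq_mul, mul_smul]) }
    obtain ⟨ψ, hψ⟩ := hext φ
    obtain ⟨x, hx⟩ := (hr.ge ha : a ∈ LinearMap.range f)
    have h1 : u x = a • ψ 1 := by
      rw [← map_smul, smul_eq_mul, mul_one, ← hx]
      exact (LinearMap.congr_fun hψ x).symm
    have h2 := hu x
    rw [h1, hx] at h2
    refine Submodule.mem_smul_pointwise_iff_exists _ _ _ |>.2 ⟨ψ 1, trivial, htf a ha0 ?_⟩
    exact h2
  obtain ⟨b, hbm, hb⟩ : ∃ b ∈ maximalIdeal R, IsSMulRegular (QuotSMulTop a F) b := by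
    refine CommAlgDim.exists_isSMulRegular_mem fun p hp hle => ?_
    haveI := hp.1
    have hpm : p = maximalIdeal R := le_antisymm (IsLocalRing.le_maximalIdeal hp.1.ne_top) hle
    subst hpm
    obtain ⟨-, w, hw⟩ := isAssociatedPrime_iff_exists_injective_linearMap _ _ |>.1 hp
    obtain ⟨w₀, hw₀⟩ := Submodule.Quotient.mk_surjective _ (w (Ideal.Quotient.mk _ 1))
    have hmem : ∀ r ∈ maximalIdeal R, r • w₀ ∈ a • (⊤ : Submodule R F) := fun r hr' => by
      rw [← Submodule.Quotient.mk_eq_zero, Submodule.Quotient.mk_smul, hw₀, ← map_smul,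
        ← map_zero w]
      refine congrArg w ?_
      show Ideal.Quotient.mk _ (r * 1) = 0
      rw [mul_one, Ideal.Quotient.eq_zero_iff_mem]
      exact hr'
    have h0 := key w₀ hmem
    rw [← Submodule.Quotient.mk_eq_zero, hw₀, ← map_zero w] at h0
    exact hp.1.ne_top ((Ideal.eq_top_iff_one _).2 (Ideal.Quotient.eq_zero_iff_mem.1 (hw h0)))
  have hdep : ((2 : ℕ) : ℕ∞) ≤ LocCoh.depth R F := by
    refine InvLib.HasSeq.le_depth ⟨[a, b], rfl, fun r hr' => ?_, ?_⟩
    · rcases List.mem_cons.1 hr' with rfl | h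
      · exact ha
      · rw [List.mem_singleton.1 h]; exact hbm
    · rw [isWeaklyRegular_cons_iff, isWeaklyRegular_cons_iff]
      exact ⟨htf a ha0, hb, IsWeaklyRegular.nil _ _⟩
  have hp := (DepthLib.le_depth_iff_pdlt R F (d := 2) (by exact_mod_cast hd) (n := 2) le_rfl).1 hdep
  haveI : Module.Projective R F := CommAlgDim.pdlt_one_iff.1 hp
  exact Module.free_of_flat_of_isLocalRing

end SurfExtLib
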