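import Groth.Agent.SurfExtLib.CBHom
import Groth.Agent.SurfExtLib.CBModule
import Groth.Agent.SurfExtLib.FinSupp
import Groth.Agent.HurwitzLib.Fiber
import Groth.Agent.CurvLib.Finite0
import Groth.Agent.InjModLib.ExtCrit
import Groth.Agent.ParGPLib.Basic
import Groth.Agent.RefHullLib.Reflexive

/-!
# Length one sheaves at a closed point of a surface
-/

set_option autoImplicit false
set_option linter.style.haveILetI false
set_option linter.unusedSectionVars false
set_option backward.isDefEq.respectTransparency false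
set_option backward.isDefEq.respectTransparency.types false
set_option maxHeartbeats 1000000
universe u

open CategoryTheory CategoryTheory.Limits AlgebraicGeometry TopologicalSpace Opposite
open CohCmpLib (stk homMod evS evMod hVal homMod_ext)
open ProjFormLib (ger res ger_smul ger_res exists_ger)
open PnDualLib (preMap)

noncomputable section

namespace SurfExtLib

variable {k : Type u} [Field k] [IsAlgClosed k] {X : Scheme.{u}} [X.Over (Spec (CommRingCat.of k))]

/-- At a closed point every element of the local ring is a constant modulo the maximal ideal. -/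
theorem exists_sub_const_mem [LocallyOfFiniteType (X ↘ Spec (CommRingCat.of k))] {z : X} (hz : IsClosed ({z} : Set X))
    (a : X.presheaf.stalk z) : ∃ c : k,
    a - X.presheaf.germ ⊤ z trivial (Coh.toGlobal (X ↘ Spec (CommRingCat.of k)) c) ∈
      IsLocalRing.maximalIdeal (X.presheaf.stalk z) := by
  letI := Curv2.resAlgebra k X z
  haveI := HurwitzLib.finite_residueField (k := k) hz
  haveI : Algebra.IsIntegral k (X.residueField z) := Algebra.IsIntegral.of_finite k _
  obtain ⟨c, hc⟩ := (IsAlgClosed.algebraMap_bijective_of_isIntegral (k := k) (K := X.residueField z)).2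
    ((X.residue z).hom a)
  refine ⟨c, (IsLocalRing.residue_eq_zero_iff _).1 ?_⟩
  rw [map_sub, sub_eq_zero]
  exact hc.symm

/-- A coherent module of length one supported at `z`. -/
structure IsPt (K : X.Modules) (z : X) : Prop where
  closed : IsClosed ({z} : Set X)
  coh : Coh.IsCoh K
  supp : CohB1.support K ⊆ {z}
  gen : ∃ g : stk K z, g ≠ 0 ∧ ∀ t : stk K z, ∃ c : X.presheaf.stalk z, c • g = t
  kills : ∀ a ∈ IsLocalRing.maximalIdeal (X.presheaf.stalk z), ∀ t : stk K z, a • t = 0

variable {K : X.Modules} {z : X}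

theorem IsPt.subsingleton_stk (hK : IsPt K z) {y : X} (hy : y ≠ z) : Subsingleton (stk K y) :=
  SurfExtLib.subsingleton_stk fun h => hy (hK.supp h)

theorem IsPt.hom_ext (hK : IsPt K z) {A : X.Modules} {a b : A ⟶ K} (h : ∀ t, FLI.sMap a z t = FLI.sMap b z t) :
    a = b :=
  InjModLib.hom_ext_stalks a b fun y => by
    by_cases hy : y = z
    · subst hy; exact h
    · haveI := hK.subsingleton_stk hy
      exact fun t => Subsingleton.elim (α := stk K y) _ _

/-- The germ at `z` of the unit section. -/
abbrev oneAt (z : X) : stk (Coh.structureModule X) z :=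
  ger (Coh.structureModule X) z (U := ⊤) trivial (show Γ(Coh.structureModule X, ⊤) from (1 : Γ(X, ⊤)))

theorem exists_smul_oneAt (z : X) (t : stk (Coh.structureModule X) z) :
    ∃ c : X.presheaf.stalk z, c • oneAt z = t := by
  obtain ⟨U, hz, r, rfl⟩ := exists_ger (Coh.structureModule X) z t
  exact ⟨X.presheaf.germ U z hz (show Γ(X, U) from r), (FLI.ger_smul_one z hz (show Γ(X, U) from r)).symm⟩

/-- There is an epimorphism from the structure sheaf, unique up to scalars. -/
theorem IsPt.exists_epi [LocallyOfFiniteType (X ↘ Spec (CommRingCat.of k))] (hK : IsPt K z) :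
    ∃ π : Coh.structureModule X ⟶ K, Epi π ∧ π ≠ 0 ∧ ∀ s : Coh.structureModule X ⟶ K, ∃ c : k, s = c • π := by
  obtain ⟨g, hg0, hg⟩ := hK.gen
  obtain ⟨s, hs⟩ := CurvLib.surjective_germ_of_finite_support K (Set.finite_singleton z)
    (fun x hx => by rw [Set.mem_singleton_iff.1 hx]; exact hK.closed) hK.supp z g
  let π := QCohLib.unitHom K s
  have h1 : FLI.sMap π z (oneAt z) = g := by
    refine (ProjFormLib.ger_map π z (U := ⊤) trivial _).trans ?_
    refine Eq.trans ?_ hs
    exact congrArg (ger K z (U := ⊤) trivial) (GenusOneSSLib.unitHom_top s)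
  have hepi : Epi π := by
    refine Abelian.epi_of_cokernel_π_eq_zero _ ((DevissLib.isZero_of_support_empty
      (Set.eq_empty_of_forall_notMem fun y hy => DevissLib.notMem_support_cokernel π y (fun t => ?_) hy)).eq_of_tgt _ _)
    by_cases hyz : y = z
    · subst hyz
      obtain ⟨c, rfl⟩ := hg t
      exact ⟨c • oneAt y, by
        rw [map_smul]
        exact congrArg (c • ·) h1⟩
    · haveI := hK.subsingleton_stk hyz
      exact ⟨0, Subsingleton.elim (α := stk K y) _ _⟩
  refine ⟨π, hepi, fun h => hg0 (by rw [← h1, h, FLI.sMap_zero]), fun t => ?_⟩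
  obtain ⟨r, hr⟩ := hg (FLI.sMap t z (oneAt z))
  obtain ⟨c, hc⟩ := exists_sub_const_mem (k := k) hK.closed r
  refine ⟨c, hK.hom_ext fun x => ?_⟩
  obtain ⟨d, rfl⟩ := exists_smul_oneAt z x
  show ((DerSch.stalkFunctor X z).map t).hom (d • oneAt z) = ((DerSch.stalkFunctor X z).map (c • π)).hom (d • oneAt z)
  rw [map_smul, map_smul]
  refine congrArg (d • ·) ?_
  have h2 : FLI.sMap (c • π) z (oneAt z) =
      X.presheaf.germ ⊤ z trivial (Coh.toGlobal (X ↘ Spec (CommRingCat.of k)) c) • g := by
    rw [← h1]
    refine (ProjFormLib.ger_map (c • π) z (U := ⊤) trivial _).trans ?_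
    rw [KLin.smul_app_apply, ger_smul]
    refine congrArg₂ (· • ·) ?_ (ProjFormLib.ger_map π z (U := ⊤) trivial _).symm
    exact TopCat.Presheaf.germ_res_apply X.presheaf (homOfLE (le_top : (⊤ : X.Opens) ≤ ⊤)) z trivial _
  refine hr.symm.trans ?_
  refine Eq.trans ?_ h2.symm
  rw [← sub_eq_zero, ← sub_smul]
  exact hK.kills _ hc g

/-- A length one sheaf has only scalar endomorphisms. -/
theorem IsPt.exists_eq_smul_id [LocallyOfFiniteType (X ↘ Spec (CommRingCat.of k))] (hK : IsPt K z) (φ : K ⟶ K) :
    ∃ c : k, φ = c • 𝟙 K := by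
  obtain ⟨π, hπ, -, hu⟩ := hK.exists_epi (k := k)
  obtain ⟨c, hc⟩ := hu (π ≫ φ)
  exact ⟨c, (cancel_epi π).1 (by rw [hc, Linear.comp_smul, Category.comp_id])⟩

/-- No maps from a length one sheaf to a sheaf without sections killed by the maximal ideal. -/
theorem IsPt.isZero_homMod (hK : IsPt K z) {F : X.Modules}
    (hF : ∃ a ∈ IsLocalRing.maximalIdeal (X.presheaf.stalk z), IsSMulRegular (stk F z) a) :
    IsZero (homMod K F) := by
  obtain ⟨a, ha, hreg⟩ := hF
  rw [IsZero.iff_id_eq_zero]
  refine Scheme.Modules.hom_ext _ _ fun W => ConcreteCategory.hom_ext _ _ fun h => ?_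
  suffices hh : ∀ h : Γ(homMod K F, W), h = 0 from (hh _).trans (hh _).symm
  clear h
  intro h
  refine homMod_ext (fun y hy => ?_)
  have hz : hVal (0 : Γ(homMod K F, W)) y hy = 0 := rfl
  rw [hz]
  refine LinearMap.ext fun t => ?_
  by_cases hyz : y = z
  · subst hyz
    refine hreg ?_
    show a • hVal h y hy t = a • (0 : stk F y)
    rw [← map_smul, hK.kills a ha t, map_zero, smul_zero]
  · haveI := hK.subsingleton_stk hyz
    rw [Subsingleton.elim t 0, map_zero]
    rfl

variable [IsProper (X ↘ Spec (CommRingCat.of k))] [IsLocallyNoetherian X] {r : ℕ}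

/-- `Ext¹` from a length one sheaf vanishes exactly when homomorphisms from the maximal ideal extend. -/
theorem IsPt.subsingleton_ext_iff [HasExt.{u} X.Modules] (hK : IsPt K z) (i : X ⟶ CohB1.ProjSpace r k)
    [IsClosedImmersion i] {F : X.Modules}
    (hF : ∃ a ∈ IsLocalRing.maximalIdeal (X.presheaf.stalk z), IsSMulRegular (stk F z) a) :
    Subsingleton (Abelian.Ext K F 1) ↔
      ∀ (M' : Type u) [AddCommGroup M'] [Module (X.presheaf.stalk z) M']
        (f : M' →ₗ[X.presheaf.stalk z] X.presheaf.stalk z), Function.Injective f →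
        LinearMap.range f = IsLocalRing.maximalIdeal (X.presheaf.stalk z) →
        ∀ φ : M' →ₗ[X.presheaf.stalk z] stk F z,
          ∃ ψ : X.presheaf.stalk z →ₗ[X.presheaf.stalk z] stk F z, ψ ∘ₗ f = φ := by
  obtain ⟨π, hπ, hπ0, -⟩ := hK.exists_epi (k := k)
  let T : ShortComplex X.Modules := ShortComplex.mk (kernel.ι π) π (kernel.condition π)
  have hT : T.ShortExact := { exact := ShortComplex.exact_kernel π }
  have hO : FlatMod.IsFinLocFree (Coh.structureModule X) := ExtShLib.isFinLocFree_structureModule X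
  have hm : Coh.IsCoh (kernel π) := QCohLib.isCoh_kernel π (LocSuppLib.isCoh_of_isFinLocFree hO) hK.coh.1
  let I : InjectiveResolution F := injectiveResolution F
  obtain ⟨e⟩ := nonempty_hcx_one_coker hT hO I
  obtain ⟨e₁⟩ := nonempty_extOne_equiv (k := k) (F := K) I (hK.isZero_homMod hF)
  let C := (ExtShLib.hcx K I).homology 1
  have hsupp : CohB1.support C ⊆ {z} := fun y hy => by
    by_contra hyz
    exact hy (subsingleton_hcx_homology_stalk I hK.coh.2 1 fun h => hyz (hK.supp h))
  -- vanishing is surjectivity on the stalk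
  have step₁ : Subsingleton (Abelian.Ext K F 1) ↔
      Function.Surjective (FLI.sMap (preMap T.f F) z) := by
    constructor
    · intro h t
      haveI : Subsingleton (Coh.HH X C 0) := e₁.symm.toEquiv.subsingleton
      haveI : Subsingleton Γ(C, ⊤) :=
        @Equiv.subsingleton _ _ (CohCmpLib.h0E C).symm.toEquiv ‹Subsingleton (Coh.HH X C 0)›
      haveI : Subsingleton (stk C z) := subsingleton_of_forall_eq 0 fun a => by
        obtain ⟨s, rfl⟩ := CurvLib.surjective_germ_of_finite_support C (Set.finite_singleton z)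
          (fun x hx => by rw [Set.mem_singleton_iff.1 hx]; exact hK.closed) hsupp z a
        rw [Subsingleton.elim s 0]
        exact CohCmpLib.ger_zero _ _ _
      haveI : Subsingleton (stk (cokernel (preMap T.f F)) z) :=
        (FLI.sMap_surjective e.hom z).subsingleton
      exact FLI.exists_of_exact (preMap T.f F) (cokernel.π _) (cokernel.condition _)
        (ShortComplex.exact_cokernel _) z (Subsingleton.elim _ _)
    · intro h
      have hz0 : IsZero (cokernel (preMap T.f F)) :=
        DevissLib.isZero_of_support_empty (Set.eq_empty_of_forall_notMem fun y hy => by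
          by_cases hyz : y = z
          · subst hyz; exact DevissLib.notMem_support_cokernel _ _ h hy
          · haveI : Subsingleton (stk C y) := SurfExtLib.subsingleton_stk fun h => hyz (hsupp h)
            exact hy (FLI.sMap_surjective e.hom y).subsingleton)
      haveI : Subsingleton (Coh.HH X C 0) := ParGPLib.subsingleton_HH_of_isZero (k := k) (hz0.of_iso e) 0
      exact e₁.toEquiv.subsingleton
  rw [step₁, surjective_preMap_stalk_iff i hm hO]
  obtain ⟨u⟩ := RefHullLib.nonempty_stalk_unit X z
  let f₀ : stk (kernel π) z →ₗ[X.presheaf.stalk z] X.presheaf.stalk z :=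
    u.symm.toLinearMap ∘ₗ ((DerSch.stalkFunctor X z).map (kernel.ι π)).hom
  have hf₀i : Function.Injective f₀ := u.symm.injective.comp (FLI.sMap_injective (kernel.ι π) z)
  have hf₀r : LinearMap.range f₀ = IsLocalRing.maximalIdeal (X.presheaf.stalk z) := by
    refine ((IsLocalRing.maximalIdeal.isMaximal _).eq_of_le (J := LinearMap.range f₀) (fun htop => ?_)
      (fun a ha => ?_)).symm
    · have h1 : u.symm (oneAt z) ∈ LinearMap.range f₀ := by rw [htop]; trivial
      obtain ⟨x, hx⟩ := h1
      have h2 : FLI.sMap π z (oneAt z) = 0 := by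
        rw [← u.symm.injective hx]
        change FLI.sMap π z (FLI.sMap (kernel.ι π) z x) = 0
        rw [← FLI.sMap_comp, kernel.condition, FLI.sMap_zero]
      exact hπ0 (hK.hom_ext fun x => by
        obtain ⟨d, rfl⟩ := exists_smul_oneAt z x
        rw [FLI.sMap_zero]
        show ((DerSch.stalkFunctor X z).map π).hom (d • oneAt z) = 0
        rw [map_smul]
        exact (congrArg (d • ·) h2).trans (smul_zero d))
    · obtain ⟨x, hx⟩ := FLI.exists_of_exact (kernel.ι π) π (kernel.condition π) hT.exact z
        (b := u a) (by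
          rw [show u a = a • u 1 from by rw [← map_smul, smul_eq_mul, mul_one]]
          show ((DerSch.stalkFunctor X z).map π).hom (a • u 1) = 0
          rw [map_smul]
          exact hK.kills a ha _)
      exact ⟨x, by
        show u.symm (FLI.sMap (kernel.ι π) z x) = a
        rw [hx, LinearEquiv.symm_apply_apply]⟩
  constructor
  · intro h M' _ _ f hfi hfr φ
    let τ : stk (kernel π) z ≃ₗ[X.presheaf.stalk z] M' :=
      (LinearEquiv.ofInjective f₀ hf₀i) ≪≫ₗ LinearEquiv.ofEq _ _ (hf₀r.trans hfr.symm) ≪≫ₗ
        (LinearEquiv.ofInjective f hfi).symm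
    have hτ : ∀ x, f (τ x) = f₀ x := fun x => by
      simp only [τ, LinearEquiv.trans_apply]
      exact congrArg Subtype.val ((LinearEquiv.ofInjective f hfi).apply_symm_apply _)
    obtain ⟨ψ, hψ⟩ := h (φ ∘ₗ τ.toLinearMap)
    refine ⟨ψ ∘ₗ u.toLinearMap, LinearMap.ext fun x => ?_⟩
    obtain ⟨x, rfl⟩ := τ.surjective x
    show ψ (u (f (τ x))) = φ (τ x)
    rw [hτ]
    show ψ (u (u.symm _)) = φ (τ x)
    rw [LinearEquiv.apply_symm_apply]
    exact LinearMap.congr_fun hψ x
  · intro h φ
    obtain ⟨ψ, hψ⟩ := h (stk (kernel π) z) f₀ hf₀i hf₀r φ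
    exact ⟨ψ ∘ₗ u.symm.toLinearMap, hψ⟩

end SurfExtLib
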