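import Groth.Agent.SurfExtLib.CBPoint
import Groth.Agent.ExtOneLib.Basic
import Groth.Agent.StabLib.CohExt
import Mathlib.Algebra.Module.Submodule.Union

/-!
# Locally free extensions and the Cayley–Bacharach property
-/

set_option autoImplicit false
set_option linter.style.haveILetI false
set_option linter.unusedSectionVars false
set_option backward.isDefEq.respectTransparency false
set_option backward.isDefEq.respectTransparency.types false
set_option maxHeartbeats 1600000
universe u

open CategoryTheory CategoryTheory.Limits AlgebraicGeometry TopologicalSpace Opposite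
open CohCmpLib (stk homMod)
open Abelian

noncomputable section

namespace SurfExtLib

variable {k : Type u} [Field k] [IsAlgClosed k] {X : Scheme.{u}} [X.Over (Spec (CommRingCat.of k))]
  [IsProper (X ↘ Spec (CommRingCat.of k))] [SmoothOfRelativeDimension 2 (X ↘ Spec (CommRingCat.of k))]
  [IsIntegral X] [IsLocallyNoetherian X] {r : ℕ} (i : X ⟶ CohB1.ProjSpace r k) [IsClosedImmersion i]
  (hi : i ≫ CohB1.ProjSpace.toSpec r k = X ↘ Spec (CommRingCat.of k))

/-- Stalks are torsion free. -/
def TfStalks (F : X.Modules) : Prop :=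
  ∀ (x : X) (a : X.presheaf.stalk x), a ≠ 0 → IsSMulRegular (stk F x) a

include k in
omit [IsAlgClosed k] [IsProper (X ↘ Spec (CommRingCat.of k))] in
theorem regular_stalk (x : X) : IsRegularLocalRing (X.presheaf.stalk x) :=
  haveI : Smooth (X ↘ Spec (CommRingCat.of k)) := SmoothOfRelativeDimension.smooth 2 _
  Groth.Agent.S1535.result k X x

theorem tfStalks_of_isFinLocFree {F : X.Modules} (hF : FlatMod.IsFinLocFree F) : TfStalks F := fun x a ha => by
  haveI := MiscFlat6.free_stalk_of_isFinLocFree hF x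
  haveI : Module.IsTorsionFree (X.presheaf.stalk x) (F.presheaf.stalk x) := inferInstance
  exact Module.IsTorsionFree.isSMulRegular (M := F.presheaf.stalk x) (IsRegular.of_ne_zero ha)

theorem tfStalks_mid {S : ShortComplex X.Modules} (hS : S.ShortExact) (h₁ : TfStalks S.X₁) (h₃ : TfStalks S.X₃) :
    TfStalks S.X₂ := fun x a ha s t hst => by
  haveI := hS.mono_f
  have hg : FLI.sMap S.g x s = FLI.sMap S.g x t := h₃ x a ha (by
    show a • ((DerSch.stalkFunctor X x).map S.g).hom s = a • ((DerSch.stalkFunctor X x).map S.g).hom t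
    rw [← map_smul, ← map_smul]
    exact congrArg _ hst)
  obtain ⟨w, hw⟩ := FLI.exists_of_exact S.f S.g S.zero hS.exact x (b := s - t) (by
    show ((DerSch.stalkFunctor X x).map S.g).hom (s - t) = 0
    rw [map_sub]
    exact sub_eq_zero.2 hg)
  have : w = 0 := h₁ x a ha (FLI.sMap_injective S.f x (by
    show ((DerSch.stalkFunctor X x).map S.f).hom (a • w) = ((DerSch.stalkFunctor X x).map S.f).hom (a • 0)
    rw [map_smul, smul_zero, map_zero]
    refine (congrArg (a • ·) hw).trans ?_
    change a • (s - t) = 0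
    rw [smul_sub, sub_eq_zero]
    exact hst))
  subst this
  exact sub_eq_zero.1 (hw.symm.trans (map_zero ((DerSch.stalkFunctor X x).map S.f).hom))

section Point

variable {z : X}

include k in
omit [IsAlgClosed k] [IsProper (X ↘ Spec (CommRingCat.of k))] in
theorem dim_stalk_closed (hz : IsClosed ({z} : Set X)) : ringKrullDim (X.presheaf.stalk z) = 2 :=
  (CIGen.closedPt_of_smooth (X ↘ Spec (CommRingCat.of k)) 2 z hz).2

include k in
omit [IsAlgClosed k] [IsProper (X ↘ Spec (CommRingCat.of k))] in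
theorem exists_regular_mem (hz : IsClosed ({z} : Set X)) {F : X.Modules} (hF : TfStalks F) :
    ∃ a ∈ IsLocalRing.maximalIdeal (X.presheaf.stalk z), IsSMulRegular (stk F z) a := by
  haveI := regular_stalk (k := k) z
  haveI := CommAlgDim.isDomain_of_isRegularLocalRing (X.presheaf.stalk z)
  obtain ⟨a, ha, ha0⟩ : ∃ a ∈ IsLocalRing.maximalIdeal (X.presheaf.stalk z), a ≠ (0 : X.presheaf.stalk z) := by
    refine Submodule.exists_mem_ne_zero_of_ne_bot fun hb => ?_
    rw [← IsLocalRing.isField_iff_maximalIdeal_eq] at hb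
    have h := dim_stalk_closed (k := k) hz
    rw [ringKrullDim_eq_zero_of_isField hb] at h
    exact absurd h (by decide)
  exact ⟨a, ha, hF z a ha0⟩

variable [HasExt.{u} X.Modules]

include k i in
/-- `Ext¹(K, F) = 0` for `F` free at `z`. -/
theorem IsPt.subsingleton_ext_of_free {K : X.Modules} (hK : IsPt K z) {F : X.Modules} (hF : Coh.IsCoh F)
    (htf : TfStalks F) (hfree : Module.Free (X.presheaf.stalk z) (stk F z)) : Subsingleton (Ext K F 1) := by
  haveI := regular_stalk (k := k) z
  haveI := finite_stk hF z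
  exact (hK.subsingleton_ext_iff (k := k) i (exists_regular_mem (k := k) hK.closed htf)).2
    fun M' _ _ f hfi hfr φ => extends_of_free (dim_stalk_closed (k := k) hK.closed) f hfi hfr φ

include k i in
/-- Conversely. -/
theorem IsPt.free_of_subsingleton_ext {K : X.Modules} (hK : IsPt K z) {F : X.Modules} (hF : Coh.IsCoh F)
    (htf : TfStalks F) (h : Subsingleton (Ext K F 1)) : Module.Free (X.presheaf.stalk z) (stk F z) := by
  haveI := regular_stalk (k := k) z
  haveI := finite_stk hF z
  refine free_of_extends (dim_stalk_closed (k := k) hK.closed) (htf z)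
    (IsLocalRing.maximalIdeal (X.presheaf.stalk z)).subtype (Submodule.range_subtype _) ?_
  exact (hK.subsingleton_ext_iff (k := k) i (exists_regular_mem (k := k) hK.closed htf)).1 h _
    (IsLocalRing.maximalIdeal (X.presheaf.stalk z)).subtype (Submodule.injective_subtype _)
    (Submodule.range_subtype _)

include k in
/-- Pullback of classes along a map. -/
def resExt {A B : X.Modules} (ω : X.Modules) (f : A ⟶ B) (n : ℕ) : Ext B ω n →ₗ[k] Ext A ω n where
  toFun e := (Ext.mk₀ f).comp e (zero_add n)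
  map_add' _ _ := by rw [Ext.comp_add]
  map_smul' c e := by rw [Ext.comp_smul, RingHom.id_apply]

variable {T : ShortComplex X.Modules} (hT : T.ShortExact) (hK : IsPt T.X₃ z)
  (hP : Coh.IsCoh T.X₂) (hPtf : TfStalks T.X₂) (hPfree : Module.Free (X.presheaf.stalk z) (stk T.X₂ z))
  {ω : X.Modules} (hω : FlatMod.IsFinLocFree ω)

include k i hK hω in
theorem subsingleton_ext_pt : Subsingleton (Ext T.X₃ ω 1) :=
  hK.subsingleton_ext_of_free (k := k) i (LocSuppLib.isCoh_of_isFinLocFree hω) (tfStalks_of_isFinLocFree hω)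
    (MiscFlat6.free_stalk_of_isFinLocFree hω z)

include k i hT hK hω in
theorem resExt_injective : Function.Injective (resExt (k := k) ω T.f 1) := by
  rw [injective_iff_map_eq_zero]
  intro x hx
  obtain ⟨y, rfl⟩ := Ext.contravariant_sequence_exact₂ hT ω x hx
  haveI := subsingleton_ext_pt (k := k) i hK hω
  rw [Subsingleton.elim y 0, Ext.comp_zero]

include k hT hK hPtf in
theorem extClass_ne_zero : hT.extClass ≠ 0 := fun h0 => by
  obtain ⟨x, hx⟩ := Ext.covariant_sequence_exact₃ T.X₃ hT (Ext.mk₀ (𝟙 T.X₃)) (n₁ := 1) rfl (by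
    rw [Ext.mk₀_id_comp, h0])
  obtain ⟨φ, rfl⟩ := (Ext.mk₀_bijective T.X₃ T.X₂).2 x
  haveI : Subsingleton (Coh.HH X (homMod T.X₃ T.X₂) 0) := ParGPLib.subsingleton_HH_of_isZero (k := k)
    (hK.isZero_homMod (exists_regular_mem (k := k) hK.closed hPtf)) 0
  haveI : Subsingleton (T.X₃ ⟶ T.X₂) := (secEquiv (k := k) T.X₃ T.X₂).toEquiv.subsingleton
  have hid : 𝟙 T.X₃ = 0 := by
    refine (Ext.mk₀_bijective T.X₃ T.X₃).1 ?_
    rw [← hx, Ext.mk₀_comp_mk₀, Subsingleton.elim φ 0, zero_comp]
  obtain ⟨g, hg0, -⟩ := hK.gen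
  apply hg0
  have h1 : FLI.sMap (𝟙 T.X₃) z g = FLI.sMap (0 : T.X₃ ⟶ T.X₃) z g := congrArg (fun f => FLI.sMap f z g) hid
  rw [FLI.sMap_zero] at h1
  rw [← h1]
  exact (congrArg (fun f => f.hom g) ((DerSch.stalkFunctor X z).map_id T.X₃)).symm

include k i hT hK hP hPtf hPfree hω in
/-- **Freeness of an extension at a point.** -/
theorem free_iff_notMem {E : X.Modules} (f : ω ⟶ E) (g : E ⟶ T.X₁) (w : f ≫ g = 0)
    (hE : (ShortComplex.mk f g w).ShortExact) (hN : Coh.IsCoh T.X₁) (hNtf : TfStalks T.X₁) :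
    Module.Free (X.presheaf.stalk z) (stk E z) ↔ hE.extClass ∉ LinearMap.range (resExt (k := k) ω T.f 1) := by
  have hEc : Coh.IsCoh E := StabLib.isCoh_extension hE (LocSuppLib.isCoh_of_isFinLocFree hω) hN
  have hEtf : TfStalks E := tfStalks_mid hE (tfStalks_of_isFinLocFree hω) hNtf
  constructor
  · rintro hfree ⟨x, hx⟩
    have h0 : hT.extClass.comp hE.extClass (show 1 + 1 = 2 from rfl) = 0 := by
      rw [← hx]
      show hT.extClass.comp ((Ext.mk₀ T.f).comp x (zero_add 1)) (show 1 + 1 = 2 from rfl) = 0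
      exact ShortComplex.ShortExact.extClass_comp_assoc hT x
    obtain ⟨c', hc'⟩ := Ext.covariant_sequence_exact₃ T.X₃ hE hT.extClass (n₁ := 2) rfl h0
    haveI := hK.subsingleton_ext_of_free (k := k) i hEc hEtf hfree
    exact extClass_ne_zero (k := k) hT hK hPtf (by rw [← hc', Subsingleton.elim c' 0, Ext.zero_comp])
  · intro hmem
    refine hK.free_of_subsingleton_ext (k := k) i hEc hEtf (subsingleton_of_forall_eq 0 fun c' => ?_)
    by_contra hc'
    let y := c'.comp (Ext.mk₀ g) (add_zero 1)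
    have hy : y ≠ 0 := fun h => hc' (by
      obtain ⟨x, rfl⟩ := Ext.covariant_sequence_exact₂ T.X₃ hE c' h
      haveI := subsingleton_ext_pt (k := k) i hK hω
      rw [Subsingleton.elim x 0, Ext.zero_comp])
    haveI := hK.subsingleton_ext_of_free (k := k) i hP hPtf hPfree
    obtain ⟨q, hq⟩ := Ext.covariant_sequence_exact₁ T.X₃ hT y (Subsingleton.elim _ _) (n₀ := 0) rfl
    obtain ⟨φ, rfl⟩ := (Ext.mk₀_bijective T.X₃ T.X₃).2 q
    obtain ⟨a, rfl⟩ := hK.exists_eq_smul_id (k := k) φ
    rw [Ext.mk₀_smul, Ext.smul_comp, Ext.mk₀_id_comp] at hq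
    have ha : a ≠ 0 := fun h => hy (by rw [← hq, h, zero_smul])
    have h0 : hT.extClass.comp hE.extClass (show 1 + 1 = 2 from rfl) = 0 := by
      have h1 : y.comp hE.extClass (show 1 + 1 = 2 from rfl) = 0 := by
        show (c'.comp (Ext.mk₀ g) _).comp hE.extClass _ = 0
        rw [Ext.comp_assoc_of_second_deg_zero, hE.comp_extClass, Ext.comp_zero]
      rw [← hq, Ext.smul_comp] at h1
      exact (smul_eq_zero.1 h1).resolve_left ha
    obtain ⟨x, hx⟩ := Ext.contravariant_sequence_exact₁ hT ω hE.extClass rfl h0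
    exact hmem ⟨x, hx⟩

include i hi hT hK hP hω in
/-- **The image of the restriction is everything exactly when the point imposes a condition.** -/
theorem range_eq_top_iff (hωt : ExtPow.IsExtPow 2 (Omega.sheaf (X ↘ Spec (CommRingCat.of k))) ω)
    (hN : Coh.IsCoh T.X₁) :
    LinearMap.range (resExt (k := k) ω T.f 1) = ⊤ ↔ ∃ s : Coh.structureModule X ⟶ T.X₂, s ≫ T.g ≠ 0 := by
  obtain ⟨D, hDω, hDs⟩ := AdjFormLib.nonempty_dualData_smooth k r 2 X i hi ω hωt
  obtain ⟨eN⟩ := PnDualLib.nonempty_extX_dual D T.X₁ hN 1 (by omega) (by omega)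
  obtain ⟨eP⟩ := PnDualLib.nonempty_extX_dual D T.X₂ hP 1 (by omega) (by omega)
  subst hDω
  haveI := CurvLib.isNoetherian k (X := X)
  haveI := CurvLib.finite_HH (k := k) hN 1
  haveI := CurvLib.finite_HH (k := k) hP 1
  haveI : Module.Finite k (Ext T.X₁ D.ω 1) := Module.Finite.equiv eN.symm
  haveI : Module.Finite k (Ext T.X₂ D.ω 1) := Module.Finite.equiv eP.symm
  have hinj := resExt_injective (k := k) i hT hK hω
  have hd : topologicalKrullDim ({z} : Set X) ≤ ((0 : ℕ) : WithBot ℕ∞) := by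
    exact_mod_cast dim_le_zero_of_closed_points hK.closed (fun y hy => by
      rw [Set.mem_singleton_iff.1 hy]; exact hK.closed)
  haveI : Subsingleton (Coh.HH X T.X₃ 1) := CurvLib.subsingleton_HH_of_support _ hK.closed hK.supp hd _ (by omega)
  have hs₁ : Function.Surjective (CurvLib.hMap (k := k) T.f 1) := by
    have h2 := CurvLib.exact₂ (k := k) hT 1
    rw [LinearMap.ker_eq_top.2 (LinearMap.ext fun x => Subsingleton.elim _ _)] at h2
    exact LinearMap.range_eq_top.1 h2
  obtain ⟨π, -, hπ0, hπ⟩ := hK.exists_epi (k := k)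
  have hA : LinearMap.range (resExt (k := k) D.ω T.f 1) = ⊤ ↔
      Function.Injective (CurvLib.hMap (k := k) T.f 1) := by
    have h1 : Module.finrank k (Ext T.X₁ D.ω 1) = Module.finrank k (Coh.HH X T.X₁ 1) := by
      rw [eN.finrank_eq, Subspace.dual_finrank_eq]
    have h2 : Module.finrank k (Ext T.X₂ D.ω 1) = Module.finrank k (Coh.HH X T.X₂ 1) := by
      rw [eP.finrank_eq, Subspace.dual_finrank_eq]
    have h3 := LinearMap.finrank_range_of_inj hinj
    constructor
    · intro htop
      rw [htop, finrank_top, h1, h2] at h3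
      exact (LinearMap.injective_iff_surjective_of_finrank_eq_finrank h3).2 hs₁
    · intro hi'
      have h4 := (LinearEquiv.ofBijective _ ⟨hi', hs₁⟩).finrank_eq
      exact Submodule.eq_top_of_finrank_eq (by rw [h3, h2, ← h4, h1])
  have hB : Function.Injective (CurvLib.hMap (k := k) T.f 1) ↔
      Function.Surjective (CurvLib.hMap (k := k) T.g 0) := by
    rw [← LinearMap.ker_eq_bot, ← CurvLib.exact₁ (k := k) hT 0, LinearMap.range_eq_bot,
      ← LinearMap.range_eq_top, CurvLib.exact₃ (k := k) hT 0, LinearMap.ker_eq_top]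
  have hnat : ∀ s, CurvLib.hMap (k := k) T.g 0 (GenusOneSSLib.homEquiv (k := k) T.X₂ s) =
      GenusOneSSLib.homEquiv (k := k) T.X₃ (s ≫ T.g) := fun s => (CurvLib.hMap_comp _ _ _ _).symm
  rw [hA, hB]
  constructor
  · intro h
    obtain ⟨y, hy⟩ := h (GenusOneSSLib.homEquiv (k := k) T.X₃ π)
    obtain ⟨s, rfl⟩ := (GenusOneSSLib.homEquiv (k := k) T.X₂).surjective y
    rw [hnat] at hy
    exact ⟨s, fun h0 => hπ0 ((GenusOneSSLib.homEquiv (k := k) T.X₃).injective (by rw [← hy, h0]))⟩
  · rintro ⟨s, hs⟩ y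
    obtain ⟨c, hc⟩ := hπ (s ≫ T.g)
    obtain ⟨t, rfl⟩ := (GenusOneSSLib.homEquiv (k := k) T.X₃).surjective y
    obtain ⟨d, rfl⟩ := hπ t
    refine ⟨(d * c⁻¹) • GenusOneSSLib.homEquiv (k := k) T.X₂ s, ?_⟩
    have hc0 : c ≠ 0 := fun h => hs (by rw [hc, h, zero_smul])
    rw [map_smul, hnat, hc, map_smul, map_smul, smul_smul, mul_assoc, inv_mul_cancel₀ hc0, mul_one]

end Point

section Global

variable [HasExt.{u} X.Modules]

/-- One step: `N ⊂ P` with quotient of length one at `z`. -/
structure IsStep (T : ShortComplex X.Modules) (z : X) : Prop where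
  exact' : T.ShortExact
  pt : IsPt T.X₃ z
  coh : Coh.IsCoh T.X₂
  tf : TfStalks T.X₂
  free : Module.Free (X.presheaf.stalk z) (stk T.X₂ z)

include i hi in
/-- **Cayley–Bacharach.** -/
theorem exists_finLocFree_extension_iff [CharZero k] {ω : X.Modules} (hω : FlatMod.IsFinLocFree ω)
    (hωt : ExtPow.IsExtPow 2 (Omega.sheaf (X ↘ Spec (CommRingCat.of k))) ω)
    {N : X.Modules} (hN : Coh.IsCoh N) (hNtf : TfStalks N) (Z : Finset X)
    (P : Z → X.Modules) (K : Z → X.Modules) (a : ∀ z, N ⟶ P z) (b : ∀ z, P z ⟶ K z)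
    (w : ∀ z, a z ≫ b z = 0) (hstep : ∀ z : Z, IsStep (ShortComplex.mk (a z) (b z) (w z)) z.1)
    (hoff : ∀ x : X, x ∉ Z → Module.Free (X.presheaf.stalk x) (stk N x)) :
    (∃ (E : X.Modules) (f : ω ⟶ E) (g : E ⟶ N) (w : f ≫ g = 0),
        (ShortComplex.mk f g w).ShortExact ∧ FlatMod.IsFinLocFree E) ↔
      ∀ z : Z, ∀ s : Coh.structureModule X ⟶ P z, s ≫ b z = 0 := by
  constructor
  · rintro ⟨E, f, g, w', hE, hEf⟩ z s
    by_contra hs
    have h1 := hstep z
    have h2 := (free_iff_notMem (k := k) i h1.exact' h1.pt h1.coh h1.tf h1.free hω f g w' hE hN hNtf).1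
      (MiscFlat6.free_stalk_of_isFinLocFree hEf z.1)
    rw [(range_eq_top_iff (k := k) i hi h1.exact' h1.pt h1.coh hω hωt hN).2 ⟨s, hs⟩] at h2
    exact h2 trivial
  · intro h
    obtain ⟨e, he⟩ : ∃ e : Ext N ω 1, ∀ z, e ∉ LinearMap.range (resExt (k := k) ω (a z) 1) :=
      Submodule.exists_forall_notMem_of_forall_ne_top _ fun z htop => by
        obtain ⟨s, hs⟩ := (range_eq_top_iff (k := k) i hi (hstep z).exact' (hstep z).pt (hstep z).coh
          hω hωt hN).1 htop
        exact hs (h z s)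
    obtain ⟨E, f, g, w', hE, rfl⟩ := ExtOneLib.exists_extension e
    refine ⟨E, f, g, w', hE, ?_⟩
    have hEc : Coh.IsCoh E := StabLib.isCoh_extension hE (LocSuppLib.isCoh_of_isFinLocFree hω) hN
    refine Groth.Agent.S1688.isFinLocFree_of_isFP_of_flat (QCohLib.isFP_of_isCoh _ hEc) fun x => ?_
    by_cases hx : x ∈ Z
    · have h1 := hstep ⟨x, hx⟩
      have h2 : Module.Free (X.presheaf.stalk x) (E.presheaf.stalk x) :=
        (free_iff_notMem (k := k) i h1.exact' h1.pt h1.coh h1.tf h1.free hω f g w' hE hN hNtf).2 (he ⟨x, hx⟩)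
      exact @Module.Flat.of_free _ _ _ _ _ h2
    · have hTx := VBResLib.shortExact_stalk hE x
      haveI := MiscFlat6.free_stalk_of_isFinLocFree hω x
      haveI := hoff x hx
      have h1 : CategoryTheory.HasProjectiveDimensionLT (((ShortComplex.mk f g w').map (DevissLib.St x)).X₂) 1 :=
        hTx.hasProjectiveDimensionLT_X₂ 1
          (CommAlgDim.pdlt_one_iff.2 (Module.Projective.of_free (R := X.presheaf.stalk x) (P := ω.presheaf.stalk x)))
          (CommAlgDim.pdlt_one_iff.2 (Module.Projective.of_free (R := X.presheaf.stalk x) (P := stk N x)))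
      haveI : Module.Projective (X.presheaf.stalk x) (E.presheaf.stalk x) := CommAlgDim.pdlt_one_iff.1 h1
      exact Module.Flat.of_projective

end Global

end SurfExtLib
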