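import Groth.Agent.ExtShLib.DivExt
import Groth.Agent.ExtShLib.Hcx
import Groth.Agent.PnDualLib.DualX

/-!
# The first sheaf Ext as a cokernel
-/

set_option autoImplicit false
set_option linter.style.haveILetI false
set_option linter.unusedSectionVars false
set_option backward.isDefEq.respectTransparency false
set_option backward.isDefEq.respectTransparency.types false
universe u

open CategoryTheory CategoryTheory.Limits AlgebraicGeometry
open CohCmpLib (homMod)
open PnDualLib (preMap homFun)
open ExtShLib (hcx preCx seqCx seqCx_shortExact z0 z0_natural isZero_hcx_of_isFinLocFree)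

noncomputable section

namespace SurfExtLib

variable {X : Scheme.{u}}

theorem nonempty_rightDerived_one_coker [HasInjectiveResolutions X.Modules] {S : ShortComplex X.Modules}
    (hS : S.ShortExact) (hF : FlatMod.IsFinLocFree S.X₂) (G : X.Modules)
    [DCoh.HasSheafHom S.X₃] [(DCoh.sheafHom S.X₃).Additive] :
    Nonempty (((DCoh.sheafHom S.X₃).rightDerived 1).obj G ≅ cokernel (preMap S.f G)) := by
  let I : InjectiveResolution G := injectiveResolution G
  let σ : DCoh.sheafHom S.X₃ ≅ homFun S.X₃ := (DCoh.sheafHomAdj _).rightAdjointUniq (HomCohLib.homAdj _)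
  let e : ((DCoh.sheafHom S.X₃).rightDerived 1).obj G ≅ (hcx S.X₃ I).homology 1 :=
    I.isoRightDerivedObj (DCoh.sheafHom S.X₃) 1 ≪≫
      (HomologicalComplex.homologyFunctor X.Modules (ComplexShape.up ℕ) 1).mapIso
        (HomologicalComplex.Hom.isoOfComponents (fun i => σ.app _) fun i l _ => (σ.hom.naturality _).symm)
  let hC := seqCx_shortExact I hS
  haveI hδ : Epi (hC.δ 0 1 (by simp)) :=
    (hC.homology_exact₁ 0 1 (by simp)).epi_f ((isZero_hcx_of_isFinLocFree I hF 0).eq_of_tgt _ _)
  let c : cokernel (HomologicalComplex.homologyMap (preCx I S.f) 0) ≅ (hcx S.X₃ I).homology 1 :=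
    (cokernelIsCokernel _).coconePointUniqueUpToIso
      (haveI : Epi (ShortComplex.mk _ _ (hC.comp_δ 0 1 (by simp))).g := hδ
       (hC.homology_exact₃ 0 1 rfl).gIsCokernel)
  let α : cokernel (preMap S.f G) ≅ cokernel (HomologicalComplex.homologyMap (preCx I S.f) 0) :=
    cokernel.mapIso _ _ (asIso (z0 I S.X₂)) (asIso (z0 I S.X₁)) (z0_natural I S.f).symm
  exact ⟨e ≪≫ c.symm ≪≫ α.symm⟩

/-- Coherent sheaves on a projective scheme are quotients of finite locally free ones. -/
theorem exists_finLocFree_epi {k : Type u} [Field k] {r : ℕ} (i : X ⟶ CohB1.ProjSpace r k) [IsClosedImmersion i]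
    (F : X.Modules) (hF : Coh.IsCoh F) :
    ∃ (E : X.Modules) (π : E ⟶ F), FlatMod.IsFinLocFree E ∧ Epi π := by
  haveI := PnCohLib.isLocallyNoetherian_projSpace (n := r) k
  obtain ⟨N, b, g, -, hg, -⟩ := PnDualLib.exists_neg_epi k r ((Coh.push i).obj F) (PnDualLib.isCoh_push' i hF) 0
  haveI := hg
  haveI := CycKSuppLib.isIso_counit i F
  haveI : Epi ((Scheme.Modules.pullback i).map g) := inferInstance
  exact ⟨_, (Scheme.Modules.pullback i).map g ≫ (Scheme.Modules.pullbackPushforwardAdjunction i).counit.app F,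
    CohCmpLib.isFinLocFree_pb (g := i) (PnDualLib.isFinLocFree_sum k r _ b), epi_comp _ _⟩

end SurfExtLib
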