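import Groth.Agent.CohCmpLib.HomMod
import Groth.Agent.ProjClosedImmLib.Stalk
import Groth.Agent.MiscFlat6.FreeStalks

/-!
# No homomorphisms from a sheaf on a proper closed subscheme into a locally free sheaf
-/

set_option autoImplicit false
set_option linter.style.haveILetI false
set_option backward.isDefEq.respectTransparency false
set_option backward.isDefEq.respectTransparency.types false
universe u

open CategoryTheory CategoryTheory.Limits AlgebraicGeometry TopologicalSpace
open CohCmpLib (homMod hVal homMod_ext)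

namespace SurfExtLib

variable {S C : Scheme.{u}} (j : C ⟶ S) [IsClosedImmersion j]

theorem genericPoint_notMem_range [IrreducibleSpace S] [QuasiSober S]
    (h : topologicalKrullDim C ≠ topologicalKrullDim S) : genericPoint S ∉ Set.range ⇑j := fun hη => by
  have hu : Set.range ⇑j = Set.univ := by
    refine Set.univ_subset_iff.1 ?_
    rw [← genericPoint_closure S]
    exact closure_minimal (Set.singleton_subset_iff.2 hη) j.isClosedEmbedding.isClosed_range
  have e : C ≃ₜ S := j.isClosedEmbedding.isEmbedding.toHomeomorph.trans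
    ((Homeomorph.setCongr hu).trans (Homeomorph.Set.univ S))
  exact h (IsHomeomorph.topologicalKrullDim_eq _ e.isHomeomorph)

/-- Away from the generic point, a closed subscheme is locally killed by nonzero functions. -/
theorem exists_stalkMap_eq_zero [IsIntegral S] [IsReduced C] (hη : genericPoint S ∉ Set.range ⇑j) (c : C) :
    ∃ a : S.presheaf.stalk (j c), a ≠ 0 ∧ j.stalkMap c a = 0 := by
  obtain ⟨_, ⟨U, hU, rfl⟩, hcU, -⟩ :=
    S.isBasis_affineOpens.exists_subset_of_mem_open (Set.mem_univ (j c)) isOpen_univ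
  have hηU : genericPoint S ∈ U :=
    ((genericPoint_spec S).mem_open_set_iff U.isOpen).2 ⟨j c, trivial, hcU⟩
  obtain ⟨f, hfle, hηf⟩ := hU.exists_basicOpen_le
    (V := ⟨(Set.range ⇑j)ᶜ, j.isClosedEmbedding.isClosed_range.isOpen_compl⟩) ⟨genericPoint S, hη⟩ hηU
  have h0 : j.app U f = 0 := by
    rw [← basicOpen_eq_bot_iff, ← Scheme.preimage_basicOpen, eq_bot_iff]
    exact fun x hx => (hfle hx ⟨x, rfl⟩).elim
  haveI : Nonempty U := ⟨⟨j c, hcU⟩⟩
  refine ⟨S.presheaf.germ U (j c) hcU f, fun h => ?_, ?_⟩
  · have hf : f = 0 := germ_injective_of_isIntegral S (j c) hcU (h.trans (map_zero _).symm)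
    rw [hf, Scheme.basicOpen_zero] at hηf
    exact hηf
  · rw [Scheme.Hom.germ_stalkMap_apply, h0, map_zero]

/-- `ℋom(j_* M, G) = 0` for `G` finite locally free. -/
theorem isZero_homMod_push [IsIntegral S] [IsReduced C] (hη : genericPoint S ∉ Set.range ⇑j) (M : C.Modules)
    {G : S.Modules} (hG : FlatMod.IsFinLocFree G) :
    IsZero (homMod ((Scheme.Modules.pushforward j).obj M) G) := by
  rw [IsZero.iff_id_eq_zero]
  refine Scheme.Modules.hom_ext _ _ fun W => ConcreteCategory.hom_ext _ _ fun h => ?_
  suffices hh : ∀ h : Γ(homMod ((Scheme.Modules.pushforward j).obj M) G, W), h = 0 from (hh _).trans (hh _).symm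
  clear h
  intro h
  refine homMod_ext (fun y hy => ?_)
  have hz : hVal (0 : Γ(homMod ((Scheme.Modules.pushforward j).obj M) G, W)) y hy = 0 := rfl
  rw [hz]
  refine LinearMap.ext fun t => ?_
  by_cases hyr : y ∈ Set.range ⇑j
  · obtain ⟨c, rfl⟩ := hyr
    obtain ⟨a, ha0, hac⟩ := exists_stalkMap_eq_zero j hη c
    have hat : a • t = 0 := (ProjClosedImmLib.pS_bijective j c M).1 (by
      erw [ProjClosedImmLib.pS_smul, hac, zero_smul, map_zero])
    haveI := MiscFlat6.free_stalk_of_isFinLocFree hG (j c)
    haveI : Module.IsTorsionFree (S.presheaf.stalk (j c)) (G.presheaf.stalk (j c)) := inferInstance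
    have h2 : a • hVal h (j c) hy t = 0 := by rw [← map_smul, hat, map_zero]
    refine (Module.IsTorsionFree.isSMulRegular (M := G.presheaf.stalk (j c)) (IsRegular.of_ne_zero ha0)) ?_
    exact h2.trans (smul_zero a).symm
  · haveI : Subsingleton (CohCmpLib.stk ((Scheme.Modules.pushforward j).obj M) y) :=
      ProjClosedImmLib.subsingleton_stalk j M hyr
    rw [Subsingleton.elim t 0, map_zero]
    rfl

end SurfExtLib
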