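import Groth.Agent.DepthLib.AB
import Groth.Agent.DepthLib.RegAB
import Groth.Agent.InvLib.Depth
import Groth.Agent.CommAlgDim.GlobalDim
import Mathlib.RingTheory.DiscreteValuationRing.TFAE
import Mathlib.RingTheory.LocalRing.MaximalIdeal.Basic
import Mathlib.LinearAlgebra.Isomorphisms

/-!
# Modules of projective dimension at most one over regular local rings of dimension at most two
-/

set_option autoImplicit false
set_option linter.style.haveILetI false
universe u

open RingTheory.Sequence IsLocalRing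

namespace SurfExtLib

variable {R : Type u} [CommRing R]

/-- A module is killed, elementwise, by nonzero scalars: the uniform version. -/
def IsTorMod (R : Type u) [CommRing R] (M : Type u) [AddCommGroup M] [Module R M] : Prop :=
  ∃ a : R, a ≠ 0 ∧ ∀ t : M, a • t = 0

theorem IsTorMod.of_injective {M N : Type u} [AddCommGroup M] [Module R M] [AddCommGroup N] [Module R N]
    (h : IsTorMod R N) (f : M →ₗ[R] N) (hf : Function.Injective f) : IsTorMod R M := by
  obtain ⟨a, ha, hN⟩ := h
  exact ⟨a, ha, fun t => hf (by rw [map_smul, hN, map_zero])⟩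

theorem IsTorMod.hom_eq_zero {M P : Type u} [AddCommGroup M] [Module R M] [AddCommGroup P] [Module R P]
    [IsDomain R] [Module.IsTorsionFree R P] (h : IsTorMod R M) (g : M →ₗ[R] P) : g = 0 := by
  obtain ⟨a, ha, hM⟩ := h
  refine LinearMap.ext fun t => Module.IsTorsionFree.isSMulRegular (M := P) (IsRegular.of_ne_zero ha) ?_
  show a • g t = a • (0 : P)
  rw [← map_smul, hM, map_zero, smul_zero]

variable [IsRegularLocalRing R]

/-- Submodules of modules of projective dimension at most one, in dimension at most two. -/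
theorem pdlt_two_of_injective {M N : Type u} [AddCommGroup M] [Module R M] [Module.Finite R M]
    [AddCommGroup N] [Module R N] [Module.Finite R N] {d : ℕ} (hd : ringKrullDim R = d) (hd2 : d ≤ 2)
    (f : M →ₗ[R] N) (hf : Function.Injective f) (hN : CommAlgDim.PDLT R N 2) : CommAlgDim.PDLT R M 2 := by
  rcases le_or_gt d 1 with h1 | h1
  · exact CommAlgDim.PDLT.mono (by omega) ((DepthLib.le_depth_iff_pdlt _ _ hd (Nat.zero_le d)).1 zero_le')
  obtain rfl : d = 2 := by omega
  have h : ((1 : ℕ) : ℕ∞) ≤ LocCoh.depth R N := (DepthLib.le_depth_iff_pdlt _ _ hd (by omega)).2 hN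
  obtain ⟨rs, hl, hm, hr⟩ := InvLib.hasSeq_of_le_depth h
  obtain ⟨a, rfl⟩ := List.length_eq_one_iff.1 hl
  rw [isWeaklyRegular_cons_iff] at hr
  refine (DepthLib.le_depth_iff_pdlt _ _ hd (by omega)).1 (InvLib.HasSeq.le_depth ⟨[a], rfl, hm, ?_⟩)
  rw [isWeaklyRegular_cons_iff]
  exact ⟨fun x y hxy => hf (hr.1 (by
    show a • f x = a • f y
    rw [← map_smul, ← map_smul]; exact congrArg f hxy)), IsWeaklyRegular.nil _ _⟩

omit [IsRegularLocalRing R]

/-- Torsion passes to the cokernel of the transpose. -/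
theorem exists_comp_eq_smul {K E P : Type u} [AddCommGroup K] [Module R K] [AddCommGroup E] [Module R E]
    [AddCommGroup P] [Module R P] (f : K →ₗ[R] E) (hf : Function.Injective f) {a : R}
    (ha : ∀ e : E, a • e ∈ LinearMap.range f) (φ : K →ₗ[R] P) : ∃ ψ : E →ₗ[R] P, ψ ∘ₗ f = a • φ := by
  refine ⟨φ ∘ₗ (LinearEquiv.ofInjective f hf).symm.toLinearMap ∘ₗ
    (LinearMap.codRestrict (LinearMap.range f) (a • LinearMap.id) ha), LinearMap.ext fun x => ?_⟩
  have h : (LinearEquiv.ofInjective f hf).symm ⟨a • f x, ha (f x)⟩ = a • x := by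
    rw [LinearEquiv.symm_apply_eq]
    exact Subtype.ext (by simp)
  show φ ((LinearEquiv.ofInjective f hf).symm ⟨a • f x, ha (f x)⟩) = a • φ x
  rw [h, map_smul]

/-- Over a principal maximal ideal, the transpose of an inclusion with cyclic cokernel killed by the
maximal ideal has a cokernel in which any nonzero element generates. -/
theorem exists_smul_sub_comp {K E : Type u} [AddCommGroup K] [Module R K] [AddCommGroup E] [Module R E]
    [IsLocalRing R] [IsDomain R] {π : R} (hπ0 : π ≠ 0) (hπ : maximalIdeal R = Ideal.span {π})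
    (f : K →ₗ[R] E) (hf : Function.Injective f) (e₁ : E) (hgen : ∀ e : E, ∃ (c : R) (x : K), e = c • e₁ + f x)
    (hm : ∀ e : E, π • e ∈ LinearMap.range f) (φ ψ : K →ₗ[R] R) (hφ : ∀ g : E →ₗ[R] R, g ∘ₗ f ≠ φ) :
    ∃ (c : R) (g : E →ₗ[R] R), ψ = c • φ + g ∘ₗ f := by
  obtain ⟨x₁, hx₁⟩ := hm e₁
  -- a functional whose value at `x₁` lies in the maximal ideal extends
  have key : ∀ χ : K →ₗ[R] R, χ x₁ ∈ maximalIdeal R → ∃ g : E →ₗ[R] R, g ∘ₗ f = χ := by
    intro χ hχ
    obtain ⟨ψ', hψ'⟩ := exists_comp_eq_smul f hf hm χ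
    have hdiv : ∀ e : E, ∃ y : R, π * y = ψ' e := fun e => by
      obtain ⟨c, x, rfl⟩ := hgen e
      rw [hπ, Ideal.mem_span_singleton] at hχ
      obtain ⟨z, hz⟩ := hχ
      have h1 : π • ψ' e₁ = π • χ x₁ := by
        rw [← map_smul, ← hx₁]
        exact LinearMap.congr_fun hψ' x₁
      have h2 : ψ' e₁ = χ x₁ := by
        simpa [hπ0] using h1
      have h3 : ψ' (f x) = π • χ x := LinearMap.congr_fun hψ' x
      refine ⟨c * z + χ x, ?_⟩
      rw [map_add, map_smul, h2, h3, hz, smul_eq_mul, smul_eq_mul]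
      ring
    choose y hy using hdiv
    refine ⟨{ toFun := y, map_add' := fun a b => ?_, map_smul' := fun c a => ?_ }, LinearMap.ext fun x => ?_⟩
    · exact mul_left_cancel₀ hπ0 (by rw [hy, map_add, ← hy, ← hy]; ring)
    · refine mul_left_cancel₀ hπ0 ?_
      rw [hy, map_smul, ← hy, RingHom.id_apply, smul_eq_mul, smul_eq_mul]; ring
    · refine mul_left_cancel₀ hπ0 ?_
      show π * y (f x) = π * χ x
      rw [hy]
      exact (LinearMap.congr_fun hψ' x).trans (smul_eq_mul _ _)
  have hu : IsUnit (φ x₁) := by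
    by_contra h
    obtain ⟨g, hg⟩ := key φ ((mem_maximalIdeal _).2 h)
    exact hφ g hg
  obtain ⟨c, hc⟩ : ∃ c : R, c * φ x₁ = ψ x₁ := ⟨ψ x₁ * ↑hu.unit⁻¹, by rw [mul_assoc, hu.val_inv_mul, mul_one]⟩
  obtain ⟨g, hg⟩ := key (ψ - c • φ) (by simp [hc])
  exact ⟨c, g, by rw [hg]; abel⟩

end SurfExtLib
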