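import Groth.Agent.SurfExtLib.Elem
import Groth.Agent.SurfExtLib.TorsionHom
import Groth.Agent.SurfExtLib.LocalMod
import Groth.Agent.SurfExtLib.Bidual
import Groth.Agent.SurfExtLib.Coker
import Groth.Agent.SurfExtLib.LocGlob
import Groth.Agent.AdjFormLib.SmoothDual
import Groth.Agent.SurfNumLib.RR
import Groth.Agent.FLILib.Stalks

/-!
# Torsion modules of homological dimension one on a regular surface and their duals
-/

set_option autoImplicit false
set_option linter.style.haveILetI false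
set_option linter.unusedSectionVars false
set_option backward.isDefEq.respectTransparency false
set_option backward.isDefEq.respectTransparency.types false
universe u

open CategoryTheory CategoryTheory.Limits AlgebraicGeometry TopologicalSpace
open CohCmpLib (stk homMod evS evMod hVal homMod_ext)
open PnDualLib (preMap homFun)
open ExtShLib (hcx preCx seqCx seqCx_shortExact z0 z0_natural isZero_hcx_of_isFinLocFree)

noncomputable section

namespace SurfExtLib

variable {S : Scheme.{u}}

/-- A coherent torsion module whose stalks have projective dimension at most one. -/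
structure IsP1 (F : S.Modules) : Prop where
  coh : Coh.IsCoh F
  pd : ∀ x : S, CommAlgDim.PDLT (S.presheaf.stalk x) (stk F x) 2
  tor : ∀ x : S, IsTorMod (S.presheaf.stalk x) (stk F x)

theorem finite_stk {F : S.Modules} (hF : Coh.IsCoh F) (x : S) : Module.Finite (S.presheaf.stalk x) (stk F x) :=
  haveI : Coh.IsQCoh F := hF.1
  DepthLib.finite_stalk F hF.2 x

variable [IsLocallyNoetherian S] (hdim : topologicalKrullDim S ≤ 2)
  (hreg : ∀ x : S, IsRegularLocalRing (S.presheaf.stalk x))

include hdim hreg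

theorem isP1_push [IsIntegral S] {C : Scheme.{u}} (j : C ⟶ S) [IsClosedImmersion j] [IsIntegral C]
    (hC : topologicalKrullDim C = 1) (hCS : topologicalKrullDim C ≠ topologicalKrullDim S)
    (M : C.Modules) (hM : Coh.IsCoh M) (hMtf : TorSh.IsTorsionFree M) :
    IsP1 ((Scheme.Modules.pushforward j).obj M) where
  coh := VBResLib.isCoh_push_of_isClosedImmersion j hM
  pd x := haveI := hreg x; pdlt_two_push hdim j (by rw [hC]; exact one_ne_zero) M hM hMtf x
  tor x := by
    by_cases hx : x ∈ Set.range ⇑j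
    · obtain ⟨c, rfl⟩ := hx
      obtain ⟨a, ha0, hac⟩ := exists_stalkMap_eq_zero j (genericPoint_notMem_range j hCS) c
      exact ⟨a, ha0, fun t => (ProjClosedImmLib.pS_bijective j c M).1 (by
        erw [ProjClosedImmLib.pS_smul, hac, zero_smul, map_zero])⟩
    · haveI : Subsingleton (stk ((Scheme.Modules.pushforward j).obj M) x) :=
        ProjClosedImmLib.subsingleton_stalk j M hx
      haveI := hreg x
      exact ⟨1, one_ne_zero, fun t => Subsingleton.elim _ _⟩

theorem IsP1.of_mono {A F : S.Modules} (hF : IsP1 F) (i : A ⟶ F) [Mono i] (hA : Coh.IsCoh A) : IsP1 A where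
  coh := hA
  pd x := by
    haveI := hreg x
    haveI := finite_stk hA x
    haveI := finite_stk hF.coh x
    obtain ⟨d, hd⟩ := EquidimLib.exists_stalk_dim_eq_nat x
    have hd2 : d ≤ 2 := by
      have h := (DimIneqLib.stalk_dim_le_dim x).trans hdim
      rw [hd] at h
      exact_mod_cast h
    exact pdlt_two_of_injective hd hd2 ((DerSch.stalkFunctor S x).map i).hom (FLI.sMap_injective i x) (hF.pd x)
  tor x := (hF.tor x).of_injective ((DerSch.stalkFunctor S x).map i).hom (FLI.sMap_injective i x)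

omit hdim in
theorem isFinLocFree_kernel' {E F : S.Modules} (hF : IsP1 F) (hE : FlatMod.IsFinLocFree E) (f : E ⟶ F) [Epi f] :
    FlatMod.IsFinLocFree (kernel f) := by
  have hK : Coh.IsCoh (kernel f) := QCohLib.isCoh_kernel f (LocSuppLib.isCoh_of_isFinLocFree hE) hF.coh.1
  refine Groth.Agent.S1688.isFinLocFree_of_isFP_of_flat (QCohLib.isFP_of_isCoh _ hK) fun x => ?_
  haveI := hreg x
  let T : ShortComplex S.Modules := ShortComplex.mk (kernel.ι f) f (kernel.condition f)
  have hT : T.ShortExact := { exact := ShortComplex.exact_kernel f }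
  have hTx := VBResLib.shortExact_stalk hT x
  haveI : CategoryTheory.HasProjectiveDimensionLT (T.map (DevissLib.St x)).X₂ 1 := by
    haveI := MiscFlat6.free_stalk_of_isFinLocFree hE x
    exact CommAlgDim.pdlt_one_iff.2 (Module.Projective.of_free (R := S.presheaf.stalk x) (P := E.presheaf.stalk x))
  haveI : CategoryTheory.HasProjectiveDimensionLT (T.map (DevissLib.St x)).X₃ 2 := hF.pd x
  have h1 : CategoryTheory.HasProjectiveDimensionLT (T.map (DevissLib.St x)).X₁ 1 :=
    hTx.hasProjectiveDimensionLT_X₁ 1 inferInstance inferInstance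
  haveI : Module.Projective (S.presheaf.stalk x) ((kernel f).presheaf.stalk x) := CommAlgDim.pdlt_one_iff.1 h1
  exact Module.Flat.of_projective

omit hdim in
theorem IsP1.exists_resolution {F : S.Modules} (hF : IsP1 F) {k : Type u} [Field k] {r : ℕ}
    (i : S ⟶ CohB1.ProjSpace r k) [IsClosedImmersion i] :
    ∃ (K E : S.Modules) (f : K ⟶ E) (g : E ⟶ F) (w : f ≫ g = 0),
      (ShortComplex.mk f g w).ShortExact ∧ FlatMod.IsFinLocFree K ∧ FlatMod.IsFinLocFree E := by
  obtain ⟨E, π, hE, hπ⟩ := exists_finLocFree_epi i F hF.coh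
  haveI := hπ
  exact ⟨kernel π, E, kernel.ι π, π, kernel.condition π, { exact := ShortComplex.exact_kernel π },
    isFinLocFree_kernel' hreg hF hE π, hE⟩

omit hdim in
theorem isZero_homMod_of_tor {F G : S.Modules} (hF : IsP1 F) (hG : FlatMod.IsFinLocFree G) :
    IsZero (homMod F G) := by
  rw [IsZero.iff_id_eq_zero]
  refine Scheme.Modules.hom_ext _ _ fun W => ConcreteCategory.hom_ext _ _ fun h => ?_
  suffices hh : ∀ h : Γ(homMod F G, W), h = 0 from (hh _).trans (hh _).symm
  clear h
  intro h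
  refine homMod_ext (fun y hy => ?_)
  have hz : hVal (0 : Γ(homMod F G, W)) y hy = 0 := rfl
  rw [hz]
  haveI := hreg y
  haveI := CommAlgDim.isDomain_of_isRegularLocalRing (S.presheaf.stalk y)
  haveI := MiscFlat6.free_stalk_of_isFinLocFree hG y
  exact (hF.tor y).hom_eq_zero (P := G.presheaf.stalk y) _

omit hdim hreg in
/-- `Ext¹(F, G)` as a cokernel. -/
theorem nonempty_hcx_one_coker {T : ShortComplex S.Modules} (hT : T.ShortExact) (hE : FlatMod.IsFinLocFree T.X₂)
    {G : S.Modules} (I : InjectiveResolution G) :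
    Nonempty ((hcx T.X₃ I).homology 1 ≅ cokernel (preMap T.f G)) := by
  let hC := seqCx_shortExact I hT
  haveI hδ : Epi (hC.δ 0 1 (by simp)) :=
    (hC.homology_exact₁ 0 1 (by simp)).epi_f ((isZero_hcx_of_isFinLocFree I hE 0).eq_of_tgt _ _)
  let c : cokernel (HomologicalComplex.homologyMap (preCx I T.f) 0) ≅ (hcx T.X₃ I).homology 1 :=
    (cokernelIsCokernel _).coconePointUniqueUpToIso
      (haveI : Epi (ShortComplex.mk _ _ (hC.comp_δ 0 1 (by simp))).g := hδ
       (hC.homology_exact₃ 0 1 rfl).gIsCokernel)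
  let α : cokernel (preMap T.f G) ≅ cokernel (HomologicalComplex.homologyMap (preCx I T.f) 0) :=
    cokernel.mapIso _ _ (asIso (z0 I T.X₂)) (asIso (z0 I T.X₁)) (z0_natural I T.f).symm
  exact ⟨c.symm ≪≫ α.symm⟩

omit hdim in
/-- The transposed resolution. -/
theorem exists_dual_resolution {T : ShortComplex S.Modules} (hT : T.ShortExact) (hF : IsP1 T.X₃)
    (hE : FlatMod.IsFinLocFree T.X₂) {ω : S.Modules} (hω : FlatMod.IsFinLocFree ω) (I : InjectiveResolution ω) :
    ∃ (g : homMod T.X₁ ω ⟶ (hcx T.X₃ I).homology 1) (w : preMap T.f ω ≫ g = 0),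
      (ShortComplex.mk (preMap T.f ω) g w).ShortExact := by
  obtain ⟨e⟩ := nonempty_hcx_one_coker hT hE I
  haveI := hT.epi_g
  haveI : Mono (preMap T.f ω) :=
    (ExtShLib.preSeq_exact hT.exact ω).mono_g ((isZero_homMod_of_tor hreg hF hω).eq_of_src _ _)
  have w : preMap T.f ω ≫ cokernel.π (preMap T.f ω) ≫ e.inv = 0 := by
    rw [← Category.assoc, cokernel.condition, zero_comp]
  refine ⟨cokernel.π (preMap T.f ω) ≫ e.inv, w, { exact := ?_ }⟩
  exact (ShortComplex.exact_iff_of_iso (ShortComplex.isoMk (Iso.refl (homMod T.X₂ ω)) (Iso.refl (homMod T.X₁ ω)) e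
    (by simp) (by simp)
    : ShortComplex.mk (preMap T.f ω) (cokernel.π (preMap T.f ω) ≫ e.inv) w ≅
      ShortComplex.mk (preMap T.f ω) (cokernel.π _) (cokernel.condition _))).2 (ShortComplex.exact_cokernel _)

omit hdim hreg in
/-- Scalars killing a stalk kill the stalk of the dual. -/
theorem smul_eq_zero_of_dual {K E F Q ω : S.Modules} {f : K ⟶ E} {g₀ : E ⟶ F} {w₀ : f ≫ g₀ = 0}
    (hT : (ShortComplex.mk f g₀ w₀).ShortExact) {g : homMod K ω ⟶ Q} {w : preMap f ω ≫ g = 0}
    (hT' : (ShortComplex.mk (preMap f ω) g w).ShortExact) (hE : FlatMod.IsFinLocFree E)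
    (hK : FlatMod.IsFinLocFree K) (x : S) {a : S.presheaf.stalk x} (haF : ∀ t : stk F x, a • t = 0)
    (q : stk Q x) : a • q = 0 := by
  haveI : Mono f := hT.mono_f
  haveI : Epi g := hT'.epi_g
  obtain ⟨φ, rfl⟩ := FLI.sMap_surjective g x q
  let fx := ((DerSch.stalkFunctor S x).map f).hom
  have hm : ∀ e : stk E x, a • e ∈ LinearMap.range fx := fun e => by
    obtain ⟨b, hb⟩ := FLI.exists_of_exact f g₀ w₀ hT.exact x (b := a • e) (by
      show ((DerSch.stalkFunctor S x).map g₀).hom (a • e) = 0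
      rw [map_smul, haF])
    exact ⟨b, hb⟩
  obtain ⟨ψ, hψ⟩ := exists_comp_eq_smul fx (FLI.sMap_injective f x) hm (evS (evMod K ω) x φ)
  obtain ⟨ψ', hψ'⟩ := (CohCmpLib.homEv_evMod (P := ω) hE x).2 ψ
  have h1 : FLI.sMap (preMap f ω) x ψ' = a • φ := by
    refine (CohCmpLib.homEv_evMod (P := ω) hK x).1 ?_
    refine (PnDualLib.evS_preMap f ω x ψ').trans ?_
    rw [hψ', map_smul]
    exact hψ
  show a • ((DerSch.stalkFunctor S x).map g).hom φ = 0
  rw [← map_smul]
  refine (congrArg (FLI.sMap g x) h1.symm).trans ?_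
  rw [← FLI.sMap_comp, w, FLI.sMap_zero]

omit hdim in
theorem isP1_dual {F : S.Modules} (hF : IsP1 F) {k : Type u} [Field k] {r : ℕ}
    (i : S ⟶ CohB1.ProjSpace r k) [IsClosedImmersion i] {ω : S.Modules} (hω : FlatMod.IsFinLocFree ω)
    (I : InjectiveResolution ω) : IsP1 ((hcx F I).homology 1) := by
  obtain ⟨K, E, f, g₀, w₀, hT, hK, hE⟩ := hF.exists_resolution hreg i
  obtain ⟨g, w, hT'⟩ := exists_dual_resolution hreg hT hF hE hω I
  have hK' : FlatMod.IsFinLocFree (homMod K ω) := CohCmpLib.isFinLocFree_homMod hK hω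
  have hE' : FlatMod.IsFinLocFree (homMod E ω) := CohCmpLib.isFinLocFree_homMod hE hω
  refine ⟨?_, fun x => ?_, fun x => ?_⟩
  · obtain ⟨e⟩ := nonempty_hcx_one_coker hT hE I
    exact QCohLib.isCoh_of_iso e.symm (QCohLib.isCoh_cokernel _ (LocSuppLib.isCoh_of_isFinLocFree hE').1
      (LocSuppLib.isCoh_of_isFinLocFree hK'))
  · haveI := hreg x
    have hTx := VBResLib.shortExact_stalk hT' x
    haveI := MiscFlat6.free_stalk_of_isFinLocFree hK' x
    haveI := MiscFlat6.free_stalk_of_isFinLocFree hE' x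
    exact hTx.hasProjectiveDimensionLT_X₃ 1
      (CommAlgDim.pdlt_one_iff.2 (Module.Projective.of_free (R := S.presheaf.stalk x) (P := (homMod E ω).presheaf.stalk x)))
      (CommAlgDim.PDLT.mono (by omega) (CommAlgDim.pdlt_one_iff.2
        (Module.Projective.of_free (R := S.presheaf.stalk x) (P := (homMod K ω).presheaf.stalk x))))
  · obtain ⟨a, ha, haF⟩ := hF.tor x
    exact ⟨a, ha, smul_eq_zero_of_dual hT hT' hE hK x haF⟩

omit hdim in
theorem nonempty_dual_dual {F : S.Modules} (hF : IsP1 F) {k : Type u} [Field k] {r : ℕ}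
    (i : S ⟶ CohB1.ProjSpace r k) [IsClosedImmersion i] {ω : S.Modules} (hωi : PicF.IsInvertible ω)
    (hω : FlatMod.IsFinLocFree ω) (I : InjectiveResolution ω) :
    Nonempty ((hcx ((hcx F I).homology 1) I).homology 1 ≅ F) := by
  obtain ⟨K, E, f, g₀, w₀, hT, hK, hE⟩ := hF.exists_resolution hreg i
  obtain ⟨g, w, hT'⟩ := exists_dual_resolution hreg hT hF hE hω I
  obtain ⟨e₂⟩ := nonempty_hcx_one_coker hT' (CohCmpLib.isFinLocFree_homMod hK hω) I
  haveI := isIso_ev ω hωi hK
  haveI := isIso_ev ω hωi hE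
  haveI : Epi g₀ := hT.epi_g
  let α : cokernel f ≅ cokernel (preMap (preMap f ω) ω) :=
    cokernel.mapIso _ _ (asIso (ev ω K)) (asIso (ev ω E)) (ev_natural ω f).symm
  let β : cokernel f ≅ F := (cokernelIsCokernel f).coconePointUniqueUpToIso hT.exact.gIsCokernel
  exact ⟨e₂ ≪≫ α.symm ≪≫ β⟩

omit hdim in
/-- Serre duality between a module and its dual. -/
theorem finrank_dual {k : Type u} [Field k] [IsAlgClosed k] [S.Over (Spec (CommRingCat.of k))]
    [IsProper (S ↘ Spec (CommRingCat.of k))] [SmoothOfRelativeDimension 2 (S ↘ Spec (CommRingCat.of k))]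
    {r : ℕ} (i : S ⟶ CohB1.ProjSpace r k) [IsClosedImmersion i]
    (hi : i ≫ CohB1.ProjSpace.toSpec r k = S ↘ Spec (CommRingCat.of k)) {ω : S.Modules}
    (hωt : ExtPow.IsExtPow 2 (Omega.sheaf (S ↘ Spec (CommRingCat.of k))) ω) (hω : FlatMod.IsFinLocFree ω)
    (I : InjectiveResolution ω) {F : S.Modules} (hF : IsP1 F) :
    Module.finrank k (Coh.HH S ((hcx F I).homology 1) 0) = Module.finrank k (Coh.HH S F 1) := by
  haveI : HasExt.{u} S.Modules := hasExt_of_enoughInjectives.{u} _
  obtain ⟨D, hDω, hDs⟩ := AdjFormLib.nonempty_dualData_smooth k r 2 S i hi ω hωt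
  obtain ⟨e₁⟩ := nonempty_extOne_equiv (k := k) (F := F) I (isZero_homMod_of_tor hreg hF hω)
  obtain ⟨e₂⟩ := PnDualLib.nonempty_extX_dual D F hF.coh 1 (by omega) (by omega)
  subst hDω
  rw [← e₁.finrank_eq, e₂.finrank_eq, Subspace.dual_finrank_eq]

end SurfExtLib
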